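import Cfsg.Agent.H499.S5.Four
import Cfsg.Agent.H487.S5.PsuOwn
import Cfsg.Agent.H140.S5.PSL2Own
import Cfsg.Agent.H716.S5.Own
import Cfsg.Agent.LieClassical.HermPerfect
import Cfsg.Agent.LieClassical.HermSimple

/-!
# S2274: the strong row of `PSU_n(q)`, `n ≥ 3`, own characteristic `p ≥ 5`

Induction `n - 2 → n` for `n ≥ 5` (isotropic points, `Geo`), `n = 3` (helper487), `n = 4` (`Four`).
-/

set_option autoImplicit false

universe u

namespace Cfsg.Agent.H499.S5

open Cfsg Cfsg.Agent.LieClassical.HermBasic Cfsg.Agent.LieClassical.HermSiegel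
open Cfsg.Agent.LieClassical.SUBasic
open Cfsg.Agent.H533.T5 Cfsg.Agent.H132.S5 Cfsg.Agent.H106.MT
open Cfsg.Agent.H177.MeetPSU (rho rho_apply rho_injective)
open Cfsg.Agent.H716.S5

variable {F : Type} [Field F] [Fintype F] {q p : ℕ}

/-- **Strong pairs of semi-isometries in own characteristic**, `n ≥ 3`. -/
theorem sp_own (hF : Fintype.card F = q ^ 2) [hp : Fact p.Prime] [CharP F p] (hp5 : 5 ≤ p)
    (h2 : SRow p (Matrix.ProjectiveSpecialLinearGroup (Fin 2) F)) (h3 : SRow p (PSU 3 F q)) :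
    ∀ n, 3 ≤ n → ∀ y z : Equiv.Perm (Fin n → F), PE q p y → PE q p z →
      SP F p (rho n F q) y z := by
  intro n
  induction n using Nat.strong_induction_on with
  | _ n ih =>
  intro hn y z hy hz
  rcases Nat.lt_or_ge n 5 with h5 | h5
  · have h : n = 3 ∨ n = 4 := by omega
    rcases h with rfl | rfl
    · exact sp_of_srow hF le_rfl hp.out h3 hy hz
    · exact sp_four hF hp5 h2 hy hz
  · obtain ⟨m, rfl⟩ : ∃ m, n = m + 2 := ⟨n - 2, by omega⟩
    exact sp_step_own hF (by omega) hp5 (ih m (by omega) (by omega)) hy hz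

theorem not_comm_psu (hF : Fintype.card F = q ^ 2) {n : ℕ} (hn : 3 ≤ n) (h32 : ¬ (n = 3 ∧ q = 2)) :
    ¬ IsMulCommutative (PSU n F q) := by
  intro h
  have h1 := Cfsg.Agent.LieClassical.HermPerfect.commutator_SU_eq_top hF hn h32
  have hs := Cfsg.Agent.LieClassical.HermSimple.isSimpleGroup_of_perfect hF hn h1
  have h2 : commutator (PSU n F q) = ⊤ :=
    Cfsg.Agent.H897.T5Sub.commutator_of_surjective h1 (f := QuotientGroup.mk' _)
      (QuotientGroup.mk'_surjective _)
  have h5 : commutator (PSU n F q) = ⊥ := by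
    rw [commutator_def, Subgroup.commutator_eq_bot_iff_le_centralizer]
    intro x _
    rw [Subgroup.mem_centralizer_iff]
    intro y _
    exact h.is_comm.comm y x
  rw [h5] at h2
  exact bot_ne_top h2

/-- **The strong row of `PSU_n(q)`, `n ≥ 3`, `p ≥ 5` the characteristic.** -/
theorem srow_psu_own_type (hF : Fintype.card F = q ^ 2) (hp : p.Prime) [CharP F p] (hp5 : 5 ≤ p)
    (hAA : AAHyp.{u} p) (hRS : RSHyp.{u} p) {n : ℕ} (hn : 3 ≤ n) : SRow p (PSU n F q) := by
  have : Fact p.Prime := ⟨hp⟩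
  have hq : q ≠ 2 := by
    rintro rfl
    have h1 := Cfsg.Agent.ClassicalGeometry.PSUAutSylow.prime_dvd_q p hF
    have := Nat.le_of_dvd (by norm_num) h1
    omega
  have h2 : SRow p (Matrix.ProjectiveSpecialLinearGroup (Fin 2) F) :=
    Cfsg.Agent.H897.T5Sub.SRow.congr
      (MulEquiv.ulift : ULift.{u} (Matrix.ProjectiveSpecialLinearGroup (Fin 2) F) ≃* _)
      (Cfsg.Agent.H140.S5.PSL2Own.srow_psl2_own' hp hp5 hAA hRS MulEquiv.ulift)
  have h3 : SRow p (PSU 3 F q) := by
    have e : ULift.{u} (PSU 3 F q) ≃* PSU 3 F q := MulEquiv.ulift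
    have h1 := Cfsg.Agent.LieClassical.HermPerfect.commutator_SU_eq_top hF le_rfl
      (fun h => hq h.2)
    have hs : IsSimpleGroup (PSU 3 F q) :=
      Cfsg.Agent.LieClassical.HermSimple.isSimpleGroup_of_perfect hF le_rfl h1
    have hs' : IsSimpleGroup (ULift.{u} (PSU 3 F q)) := e.isSimpleGroup
    have hna : ¬ IsMulCommutative (ULift.{u} (PSU 3 F q)) := by
      intro h
      apply not_comm_psu hF le_rfl (fun h => hq h.2)
      refine ⟨⟨fun a b => ?_⟩⟩
      apply e.symm.injective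
      rw [map_mul, map_mul]
      exact h.is_comm.comm _ _
    exact Cfsg.Agent.H897.T5Sub.SRow.congr e
      (Cfsg.Agent.H487.S5U3.srow_psu3_own hp hp5 hF hna hRS e)
  exact srow_psu_of hF hn (fun h => hq h.2) hp (sp_own hF hp5 h2 h3 n hn)

/-- **O4: the strong row of `PSU_n(q)`, `n ≥ 3`, `p ≥ 5` the characteristic.** -/
theorem srow_psu_own (hF : Fintype.card F = q ^ 2) (hp : p.Prime) [CharP F p] (hp5 : 5 ≤ p)
    (B : SBox.{u} p) {n : ℕ} (hn : 3 ≤ n) {S : Type u} [Group S] (e : S ≃* PSU n F q) :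
    SRow p S :=
  Cfsg.Agent.H897.T5Sub.SRow.congr e.symm (srow_psu_own_type hF hp hp5 B.aa B.rs hn)

end Cfsg.Agent.H499.S5
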