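import Cfsg.Agent.H499.S5.Geo

/-!
# S2274, `PSU_4(q)`, own characteristic

* `ap_transv` : a transvection and any element (`n ≥ 3`);
* `tim_or_transv` : in dimension four an element of order `p` is a transvection or has an invariant totally isotropic
  2-space on which it is not a scalar;
* `sp_ti` : two elements with such 2-spaces (any `n`), from `PSL_2(q^2)`.
-/

set_option autoImplicit false

namespace Cfsg.Agent.H499.S5

open Cfsg Cfsg.Agent.LieClassical.HermBasic Cfsg.Agent.LieClassical.HermSiegel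
open Cfsg.Agent.LieClassical.HermGen
open Cfsg.Agent.LieClassical.SUBasic Matrix
open Cfsg.Agent.H957.T5V Cfsg.Agent.H957.T5Tr Cfsg.Agent.H957.T5U Cfsg.Agent.H533.T5
open Cfsg.Agent.H957.T5Main (not_isScal_smulA)
open Cfsg.Agent.H177.MeetPSU (rho rho_apply rho_injective)
open Cfsg.Agent.H716.S5
open Module

variable {F : Type} [Field F] [Fintype F] {n m q p : ℕ} {σ τ : F ≃+* F}
  {c d : Equiv.Perm (Fin n → F)}

/-! ### Transvections -/

/-- `c` is a transvection. -/
def Tv (q : ℕ) (c : Equiv.Perm (Fin n → F)) : Prop :=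
  ∃ (e : Fin n → F) (μ : F), e ≠ 0 ∧ hermForm n F q e e = 0 ∧ μ ≠ 0 ∧
    ∀ v, c v = v + (μ * hermForm n F q v e) • e

theorem ap_transv (hF : Fintype.card F = q ^ 2) (hn : 3 ≤ n) [hp : Fact p.Prime] [CharP F p]
    (hp5 : 5 ≤ p) (hc : Tv q c) (hd : PE q p d) : AP (rho n F q) c d := by
  have hpp : p.Prime := hp.out
  obtain ⟨e, μ, he0, he, hμ, hce⟩ := hc
  obtain ⟨τ, hτ⟩ := hd.si
  obtain ⟨β, -, hβ, hβp⟩ := hd.ind hF hn hτ
  have hβ1 : β ≠ 1 := by
    rintro rfl
    rw [orderOf_one] at hβp
    exact hpp.one_lt.ne hβp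
  obtain ⟨u, hu, hdu⟩ := Cfsg.Agent.H106.MOwnU.exists_iso_ne hF hn hβ
    (hpp.odd_of_ne_two (by omega)) (by rw [← hβp, pow_orderOf_eq_one]) hβ1
  have hu0 : u ≠ 0 := by
    rintro rfl
    rw [herm_zero_right hF] at hdu
    exact hdu rfl
  obtain ⟨s, -, hs⟩ := exists_map_iso hF hn le_rfl (mem_coordSub_top e) (mem_coordSub_top u) he0 hu0
    he hu
  refine AP.symm ⟨s, ?_⟩
  set A := rho n F q s * c * (rho n F q s)⁻¹ with hA
  have hAv : ∀ v, A v = v + (μ * hermForm n F q v u) • u := by
    intro v
    have h1 : (rho n F q s)⁻¹ v = act s⁻¹ v := by rw [← map_inv, rho_apply]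
    rw [hA, Equiv.Perm.mul_apply, Equiv.Perm.mul_apply, h1, hce, rho_apply, act_add, act_smul,
      act_act_inv, hs]
    have h2 : hermForm n F q (act s⁻¹ v) e = hermForm n F q v u := by
      rw [← hs, herm_act_left, inv_inv]
    rw [h2]
  set B := d * A * d⁻¹ with hB
  have hBv : ∀ v, B v = v + (τ μ * hermForm n F q v (d u)) • d u := by
    intro v
    rw [hB, Equiv.Perm.mul_apply, Equiv.Perm.mul_apply, hAv, hτ.semi.add, hτ.semi.smul,
      apply_inv_self, map_mul]
    have h2 : hermForm n F q v (d u) = τ (hermForm n F q (d⁻¹ v) u) := by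
      rw [← hτ.herm, apply_inv_self]
    rw [h2]
  have hdd : hermForm n F q (d u) (d u) = 0 := by rw [hτ.herm, hu, map_zero]
  have hud : hermForm n F q u (d u) ≠ 0 := fun h => hdu (herm_eq_zero_swap hF h)
  have hτμ : τ μ ≠ 0 := by rwa [Ne, EmbeddingLike.map_eq_zero_iff]
  have hli : LinearIndependent F ![u, d u] := by
    rw [LinearIndependent.pair_iff]
    intro a b hab
    have h1 := congrArg (fun v => hermForm n F q v u) hab
    have h2 := congrArg (fun v => hermForm n F q v (d u)) hab
    simp only [herm_add_left, herm_smul_left, hu, hdd, herm_zero_left, mul_zero, zero_add,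
      add_zero] at h1 h2
    exact ⟨(mul_eq_zero.1 h2).resolve_right hud, (mul_eq_zero.1 h1).resolve_right hdu⟩
  have h2 : (2 : F) ≠ 0 := by
    intro h
    have h1 : ((2 : ℕ) : F) = 0 := by exact_mod_cast h
    rw [CharP.cast_eq_zero_iff F p] at h1
    have := Nat.le_of_dvd (by omega) h1
    omega
  have h3 : (3 : F) ≠ 0 := by
    intro h
    have h1 : ((3 : ℕ) : F) = 0 := by exact_mod_cast h
    rw [CharP.cast_eq_zero_iff F p] at h1
    have := Nat.le_of_dvd (by omega) h1
    omega
  have key := not_isSolvable_plane (A := A) (B := B) h2 h3 hli (mul_ne_zero hμ hdu)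
    (mul_ne_zero hτμ hud) (fun a b => by
      rw [hAv]
      simp only [herm_add_left, herm_smul_left, hu, mul_zero, zero_add]
      module) (fun a b => by
      rw [hBv]
      simp only [herm_add_left, herm_smul_left, hdd, mul_zero, add_zero]
      module)
  intro hsol
  apply key
  refine isSolvable_of_le' ?_ hsol
  rw [Subgroup.closure_le]
  have hd1 : d ∈ Subgroup.closure ({d, A} : Set (Equiv.Perm (Fin n → F))) :=
    Subgroup.subset_closure (by simp)
  have hA1 : A ∈ Subgroup.closure ({d, A} : Set (Equiv.Perm (Fin n → F))) :=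
    Subgroup.subset_closure (by simp)
  rintro x (rfl | rfl)
  · exact hA1
  · exact mul_mem (mul_mem hd1 hA1) (inv_mem hd1)

/-! ### Totally isotropic 2-spaces -/

/-- An invariant totally isotropic plane `⟨w, N w⟩`. -/
theorem tim_of (hF : Fintype.card F = q ^ 2) (hc : SI q (1 : F ≃+* F) c)
    {N : Module.End F (Fin n → F)} (hN : ∀ v, c v = v + N v) {w : Fin n → F} (h0 : N w ≠ 0)
    (h1 : N (N w) = 0) (h2 : hermForm n F q w w = 0) (h3 : hermForm n F q w (N w) = 0) :
    TIm q 2 c := by
  have hNN : hermForm n F q (N w) (N w) = 0 := nil_perp hF hc hN w h1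
  have hNw : hermForm n F q (N w) w = 0 := herm_eq_zero_swap hF h3
  have hli : LinearIndependent F ![w, N w] := by
    rw [LinearIndependent.pair_iff]
    intro a b hab
    have h4 := congrArg N hab
    rw [map_add, map_smul, map_smul, h1, smul_zero, add_zero, map_zero] at h4
    have h5 := (smul_eq_zero.1 h4).resolve_right h0
    rw [h5, zero_smul, zero_add] at hab
    exact ⟨h5, (smul_eq_zero.1 hab).resolve_right h0⟩
  have hiso : ∀ i j, hermForm n F q (![w, N w] i) (![w, N w] j) = 0 := by
    intro i j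
    fin_cases i <;> fin_cases j
    · exact h2
    · exact h3
    · exact hNw
    · exact hNN
  refine ⟨Submodule.span F (Set.range ![w, N w]), ?_, ?_, ?_, ?_⟩
  · rw [finrank_span_eq_card hli, Fintype.card_fin]
  · intro u hu v hv
    refine Cfsg.Agent.H77.Geom.perp_span hF (S := Set.range ![w, N w]) ?_ hv
    rintro _ ⟨j, rfl⟩
    apply herm_eq_zero_swap hF
    refine Cfsg.Agent.H77.Geom.perp_span hF (S := Set.range ![w, N w]) ?_ hu
    rintro _ ⟨i, rfl⟩
    exact hiso j i
  · intro u hu
    induction hu using Submodule.span_induction with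
    | mem x hx =>
      obtain ⟨i, rfl⟩ := hx
      rw [hN]
      fin_cases i
      · exact Submodule.add_mem _ (Submodule.subset_span ⟨0, rfl⟩) (Submodule.subset_span ⟨1, rfl⟩)
      · refine Submodule.add_mem _ (Submodule.subset_span ⟨1, rfl⟩) ?_
        change N (N w) ∈ _
        rw [h1]
        exact Submodule.zero_mem _
    | zero => rw [hc.semi.zero]; exact Submodule.zero_mem _
    | add x y _ _ hx hy => rw [hc.semi.add]; exact Submodule.add_mem _ hx hy
    | smul t x _ hx => rw [hc.semi.smul]; exact Submodule.smul_mem _ _ hx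
  · rintro ⟨t, ht⟩
    have h4 := ht w (Submodule.subset_span ⟨0, rfl⟩)
    have h5 := ht (N w) (Submodule.subset_span ⟨1, rfl⟩)
    rw [hN, h1, add_zero] at h5
    have ht1 : t = 1 := by
      have : (t - 1) • N w = 0 := by rw [sub_smul, one_smul, ← h5, sub_self]
      exact sub_eq_zero.1 ((smul_eq_zero.1 this).resolve_right h0)
    rw [hN, ht1, one_smul] at h4
    apply h0
    have h6 : w + N w = w + 0 := by rw [h4, add_zero]
    exact add_left_cancel h6

/-- `N² = 0`. -/
theorem tim_or_transv_sq (hF : Fintype.card F = q ^ 2) (hc : SI q (1 : F ≃+* F) c)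
    {N : Module.End F (Fin n → F)} (hN : ∀ v, c v = v + N v) (hN0 : N ≠ 0)
    (hNN : ∀ v, N (N v) = 0) : TIm q 2 c ∨ Tv q c := by
  have hsk : ∀ x y, hermForm n F q (N x) y = - hermForm n F q x (N y) := by
    intro x y
    have h1 := nil_herm hF hc hN x y
    rw [nil_perp hF hc hN x (hNN y)] at h1
    linear_combination h1
  by_cases hli : ∃ x y, LinearIndependent F ![N x, N y]
  · left
    obtain ⟨x, y, hli⟩ := hli
    obtain ⟨ε, hε, hε'⟩ := exists_trace_zero_ne hF
    have hεq : ε ^ q = -ε := by linear_combination hε'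
    have hs : ∀ x y, hermForm n F q y (N x) = - hermForm n F q x (N y) ^ q := by
      intro x y
      rw [herm_swap hF (N x) y, hsk, neg_pow_q hF]
    obtain ⟨a, b, hab, h⟩ := exists_comb hF (α := ε * hermForm n F q x (N x))
      (β := ε * hermForm n F q x (N y)) (δ := ε * hermForm n F q y (N y)) (by
        rw [mul_pow, hεq]
        linear_combination (-ε) * hs x x) (by
        rw [mul_pow, hεq]
        linear_combination (-ε) * hs y y)
    set w := a • x + b • y with hw
    have hNw : N w = a • N x + b • N y := by rw [hw, map_add, map_smul, map_smul]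
    have hNw0 : N w ≠ 0 := by
      intro h0
      rw [hNw] at h0
      obtain ⟨h4, h5⟩ := LinearIndependent.pair_iff.1 hli a b h0
      rcases hab with h6 | h6
      · exact h6 h4
      · exact h6 h5
    have hww : hermForm n F q w (N w) = 0 := by
      have h1 : ε * hermForm n F q w (N w) = 0 := by
        rw [hNw, hw]
        simp only [herm_add_left, herm_add_right hF, herm_smul_left, herm_smul_right]
        rw [mul_pow, hεq] at h
        rw [hs x y]
        linear_combination h
      exact (mul_eq_zero.1 h1).resolve_left hε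
    obtain ⟨z, hz⟩ := exists_herm_ne_zero hF hNw0
    have hκ : hermForm n F q (N z) w ≠ 0 := by
      rw [hsk]
      exact neg_ne_zero.2 (fun h => hz (herm_eq_zero_swap hF h))
    obtain ⟨t, ht⟩ := exists_trace_eq hF (c := - hermForm n F q w w) (by
      rw [neg_pow_q hF, herm_self_pow hF])
    set κ := hermForm n F q (N z) w with hκdef
    have hwz : hermForm n F q w (N z) = κ ^ q := herm_swap hF (N z) w
    have hzz : hermForm n F q (N z) (N z) = 0 := nil_perp hF hc hN z (hNN z)
    have hN' : N (w + (t / κ) • N z) = N w := by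
      rw [map_add, map_smul, hNN, smul_zero, add_zero]
    refine tim_of hF hc hN (w := w + (t / κ) • N z) (by rw [hN']; exact hNw0)
      (hNN _) ?_ ?_
    · simp only [herm_add_left, herm_add_right hF, herm_smul_left, herm_smul_right, hwz, hzz,
        ← hκdef, div_pow]
      have h1 : t / κ * κ = t := div_mul_cancel₀ _ hκ
      have h2 : t ^ q / κ ^ q * κ ^ q = t ^ q := div_mul_cancel₀ _ (pow_ne_zero _ hκ)
      linear_combination ht + h1 + h2
    · rw [hN', herm_add_left, herm_smul_left, hww, nil_perp hF hc hN z (hNN w), mul_zero, add_zero]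
  · right
    push Not at hli
    obtain ⟨x, hx⟩ : ∃ x, N x ≠ 0 := by
      by_contra hcon
      push Not at hcon
      exact hN0 (LinearMap.ext hcon)
    set e := N x with he
    have hφ : ∀ y, ∃ t : F, N y = t • e := by
      intro y
      have h1 := hli x y
      rw [LinearIndependent.pair_iff] at h1
      push Not at h1
      obtain ⟨a, b, h2, h3⟩ := h1
      have hb : b ≠ 0 := by
        rintro rfl
        rw [zero_smul, add_zero] at h2
        exact h3 ((smul_eq_zero.1 h2).resolve_right hx) rfl
      refine ⟨-(b⁻¹ * a), ?_⟩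
      have h4 : b • N y = -(a • e) := by
        rw [eq_neg_iff_add_eq_zero, add_comm]
        exact h2
      calc N y = b⁻¹ • b • N y := (inv_smul_smul₀ hb _).symm
        _ = _ := by rw [h4, smul_neg, neg_smul, mul_smul]
    choose φ hφ using hφ
    obtain ⟨y, hy⟩ := exists_herm_ne_zero hF hx
    have h1 : ∀ v, φ v = -(φ y) ^ q / hermForm n F q e y * hermForm n F q v e := by
      intro v
      have h2 := hsk v y
      rw [hφ v, hφ y, herm_smul_left, herm_smul_right] at h2
      field_simp
      linear_combination h2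
    refine ⟨e, -(φ y) ^ q / hermForm n F q e y, hx, nil_perp hF hc hN x (hNN x), ?_, ?_⟩
    · intro h0
      rw [h0] at h1
      apply hx
      rw [he, hφ x, h1, zero_mul, zero_smul]
    · intro v
      rw [hN, ← h1, ← hφ]

/-- **Dimension four, unipotent elements.** -/
theorem tim_or_transv (hF : Fintype.card F = q ^ 2) (hn : n = 4) [hp : Fact p.Prime] [CharP F p]
    (hc : SI q (1 : F ≃+* F) c) (hcp : c ^ p = 1) (hc1 : c ≠ 1) : TIm q 2 c ∨ Tv q c := by
  obtain ⟨N, hN, hNp⟩ := exists_nil (by omega) hc hcp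
  have hN0 : N ≠ 0 := by
    rintro rfl
    apply hc1
    ext1 v
    rw [hN]
    change v + 0 = v
    rw [add_zero]
  obtain ⟨j, v, hv, hj⟩ := exists_last hNp hN0
  rcases j with _ | _ | j
  · refine tim_or_transv_sq hF hc hN hN0 (fun v => ?_)
    have h1 : (N ^ (0 + 2)) v = N (N v) := by
      rw [zero_add, pow_two]; rfl
    rw [← h1, hj]; rfl
  · -- `N ^ 3 = 0`
    left
    have hv2 : N (N v) ≠ 0 := by
      have h1 : (N ^ (0 + 1 + 1)) v = N (N v) := by
        rw [zero_add, one_add_one_eq_two, pow_two]; rfl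
      rwa [← h1]
    have h3 : ∀ v, N (N (N v)) = 0 := by
      intro v
      have h1 : (N ^ (0 + 1 + 2)) v = N (N (N v)) := by
        rw [show 0 + 1 + 2 = 3 by norm_num, pow_succ, pow_two]; rfl
      rw [← h1, hj]; rfl
    set m := N v with hm
    set e := N m with he
    have hNe : N e = 0 := h3 v
    have hme : hermForm n F q m e = 0 := nil_perp hF hc hN v hNe
    have hem : hermForm n F q e m = 0 := herm_eq_zero_swap hF hme
    have hee : hermForm n F q e e = 0 := nil_perp hF hc hN m hNe
    by_cases hmm : hermForm n F q m m = 0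
    · exact tim_of hF hc hN hv2 hNe hmm hme
    -- the anisotropic fixed vector
    have hve : hermForm n F q v e = - hermForm n F q m m := by
      have h1 := nil_herm hF hc hN v m
      rw [← hm, ← he, hme] at h1
      linear_combination h1
    have hve0 : hermForm n F q v e ≠ 0 := by rw [hve]; exact neg_ne_zero.2 hmm
    have hev0 : hermForm n F q e v ≠ 0 := fun h => hve0 (herm_eq_zero_swap hF h)
    have hli : LinearIndependent F ![e, m, v] := by
      rw [Cfsg.Agent.H957.T5Conf.li3_iff]
      intro a b d h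
      have h1 := congrArg N h
      have h2 := congrArg N h1
      simp only [map_add, map_smul, map_zero, hNe, ← he, ← hm, smul_zero, add_zero, zero_add]
        at h1 h2
      have hd : d = 0 := (smul_eq_zero.1 h2).resolve_right hv2
      rw [hd, zero_smul, add_zero] at h1
      have hb : b = 0 := (smul_eq_zero.1 h1).resolve_right hv2
      rw [hd, hb, zero_smul, zero_smul, add_zero, add_zero] at h
      exact ⟨(smul_eq_zero.1 h).resolve_right hv2, hb, hd⟩
    have hfr := Cfsg.Agent.H77.Geom.finrank_perp (q := q) hF hli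
    have hP1 : finrank F (Cfsg.Agent.H77.Geom.perp (F := F) (n := n) q (Set.range ![e, m, v])) = 1 := by
      omega
    obtain ⟨⟨z, hzP⟩, hz0, hz⟩ := finrank_eq_one_iff'.1 hP1
    have hmem : ∀ x, hermForm n F q x e = 0 → hermForm n F q x m = 0 → hermForm n F q x v = 0 →
        x ∈ Cfsg.Agent.H77.Geom.perp (F := F) (n := n) q (Set.range ![e, m, v]) := by
      intro x h1 h2 h4
      rintro _ ⟨i, rfl⟩
      fin_cases i
      · exact h1
      · exact h2
      · exact h4
    have hze : hermForm n F q z e = 0 := hzP e ⟨0, rfl⟩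
    have hzm : hermForm n F q z m = 0 := hzP m ⟨1, rfl⟩
    have hzv : hermForm n F q z v = 0 := hzP v ⟨2, rfl⟩
    have hz0' : z ≠ 0 := fun h => hz0 (Subtype.ext h)
    have hmul : ∀ x ∈ Cfsg.Agent.H77.Geom.perp (F := F) (n := n) q (Set.range ![e, m, v]),
        ∃ t : F, x = t • z := by
      intro x hx
      obtain ⟨t, ht⟩ := hz ⟨x, hx⟩
      exact ⟨t, (congrArg (fun y : ↥(Cfsg.Agent.H77.Geom.perp (F := F) (n := n) q
        (Set.range ![e, m, v])) => (y : Fin n → F)) ht).symm⟩
    have hNz : N z = 0 := by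
      have h1 : hermForm n F q (N z) e = 0 := nil_perp hF hc hN z hNe
      have h2 : hermForm n F q (N z) m = 0 := by
        have h4 := nil_herm hF hc hN z m
        rw [← he, h1, hze] at h4
        linear_combination h4
      have h4 : hermForm n F q (N z) v = 0 := by
        have h5 := nil_herm hF hc hN z v
        rw [← hm, h2, hzm] at h5
        linear_combination h5
      obtain ⟨t, ht⟩ := hmul _ (hmem _ h1 h2 h4)
      have h5 := h3 z
      simp only [ht, map_smul, smul_smul] at h5
      have h6 := (smul_eq_zero.1 h5).resolve_right hz0'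
      have h7 : t = 0 := by
        rcases mul_eq_zero.1 h6 with h7 | h7
        · rcases mul_eq_zero.1 h7 with h8 | h8 <;> exact h8
        · exact h7
      rw [ht, h7, zero_smul]
    have hzz : hermForm n F q z z ≠ 0 := by
      intro h0
      obtain ⟨x, hx⟩ := exists_herm_ne_zero hF hz0'
      have hxz : hermForm n F q x z ≠ 0 := fun h => hx (herm_eq_zero_swap hF h)
      have hez := herm_eq_zero_swap hF hze
      have hmz := herm_eq_zero_swap hF hzm
      have hvz := herm_eq_zero_swap hF hzv
      set x1 := x - (hermForm n F q x e / hermForm n F q v e) • v with hx1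
      set x2 := x1 - (hermForm n F q x1 m / hermForm n F q m m) • m with hx2
      set x3 := x2 - (hermForm n F q x2 v / hermForm n F q e v) • e with hx3
      have a1 : hermForm n F q x1 e = 0 := by
        rw [hx1, herm_sub_left, herm_smul_left, div_mul_cancel₀ _ hve0, sub_self]
      have a2 : hermForm n F q x2 e = 0 := by
        rw [hx2, herm_sub_left, herm_smul_left, a1, hme, mul_zero, sub_zero]
      have a3 : hermForm n F q x2 m = 0 := by
        rw [hx2, herm_sub_left, herm_smul_left, div_mul_cancel₀ _ hmm, sub_self]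
      have a4 : hermForm n F q x3 e = 0 := by
        rw [hx3, herm_sub_left, herm_smul_left, a2, hee, mul_zero, sub_zero]
      have a5 : hermForm n F q x3 m = 0 := by
        rw [hx3, herm_sub_left, herm_smul_left, a3, hem, mul_zero, sub_zero]
      have a6 : hermForm n F q x3 v = 0 := by
        rw [hx3, herm_sub_left, herm_smul_left, div_mul_cancel₀ _ hev0, sub_self]
      have a7 : hermForm n F q x3 z = hermForm n F q x z := by
        rw [hx3, herm_sub_left, herm_smul_left, hez, mul_zero, sub_zero, hx2, herm_sub_left,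
          herm_smul_left, hmz, mul_zero, sub_zero, hx1, herm_sub_left, herm_smul_left, hvz,
          mul_zero, sub_zero]
      obtain ⟨t, ht⟩ := hmul _ (hmem _ a4 a5 a6)
      apply hxz
      rw [← a7, ht, herm_smul_left, h0, mul_zero]
    have hzq := herm_self_pow hF z
    obtain ⟨t, ht⟩ := exists_norm_eq hF (c := - hermForm n F q m m / hermForm n F q z z) (by
      rw [div_pow, neg_pow_q hF, herm_self_pow hF, hzq])
    have hmz : hermForm n F q m z = 0 := nil_perp hF hc hN v hNz
    have hN' : N (m + t • z) = e := by rw [map_add, map_smul, hNz, smul_zero, add_zero]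
    refine tim_of hF hc hN (w := m + t • z) (by rw [hN']; exact hv2) (by rw [hN']; exact hNe) ?_ ?_
    · simp only [herm_add_left, herm_add_right hF, herm_smul_left, herm_smul_right, hmz, hzm]
      have h1 : t * t ^ q * hermForm n F q z z = - hermForm n F q m m := by
        rw [ht, div_mul_cancel₀ _ hzz]
      linear_combination h1
    · rw [hN', herm_add_left, herm_smul_left, hme, hze, mul_zero, add_zero]
  · -- `N ^ 3 ≠ 0`
    left
    have h1 : (N ^ (j + 2)) v = N (N ((N ^ j) v)) := by
      rw [pow_succ', pow_succ']; rfl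
    have h2 : (N ^ (j + 1 + 1 + 1)) v = N ((N ^ (j + 2)) v) := by
      rw [pow_succ']; rfl
    have h3 : N (N ((N ^ (j + 2)) v)) = 0 := by
      have h4 : (N ^ (j + 1 + 1 + 2)) v = N (N ((N ^ (j + 2)) v)) := by
        rw [show j + 1 + 1 + 2 = j + 2 + 1 + 1 by ring, pow_succ', pow_succ']; rfl
      rw [← h4, hj]; rfl
    rw [h2] at hv
    refine tim_of hF hc hN hv h3 ?_ ?_
    · nth_rw 1 [h1]
      exact nil_perp2 hF hc hN _ h3
    · nth_rw 1 [h1]
      exact nil_perp hF hc hN _ h3

/-! ### Two elements with totally isotropic invariant 2-spaces -/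

theorem sp_ti_same (hF : Fintype.card F = q ^ 2) (hp : p.Prime)
    (hrow : SRow p (Matrix.ProjectiveSpecialLinearGroup (Fin 2) F)) (hc : PE q p c)
    (hd : PE q p d) {U : Submodule F (Fin n → F)} (hU : finrank F U = 2)
    (h0 : ∀ u ∈ U, ∀ v ∈ U, hermForm n F q u v = 0)
    (hcU : ∀ u ∈ U, c u ∈ U) (hdU : ∀ u ∈ U, d u ∈ U)
    (hcn : ¬ ∃ t : F, ∀ u ∈ U, c u = t • u) (hdn : ¬ ∃ t : F, ∀ u ∈ U, d u = t • u) :
    SP F p (rho n F q) c d := by
  classical
  obtain ⟨σ, hσ⟩ := hc.si
  obtain ⟨τ, hτ⟩ := hd.si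
  have hi : Function.Injective U.subtype := U.injective_subtype
  obtain ⟨c0, hc0, hcc, hcs⟩ := exists_restrict U.subtype hi hσ.semi
    (fun w => ⟨⟨c w, hcU w w.2⟩, rfl⟩)
  obtain ⟨d0, hd0, hdd, hds⟩ := exists_restrict U.subtype hi hτ.semi
    (fun w => ⟨⟨d w, hdU w w.2⟩, rfl⟩)
  refine SP.of_emb U.subtype U.subtype hi hcc hdd ?_
    (spv_of_srow le_rfl hp hrow hU hc0 (hcs p hc.pw) ?_ hd0 (hds p hd.pw) ?_)
  · rintro ⟨g, hg⟩
    let B := finBasis F U
    have hBli : LinearIndependent F (fun i => ((B i : U) : Fin n → F)) :=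
      B.linearIndependent.map' U.subtype (Submodule.ker_subtype U)
    have hA : (LinearMap.toMatrix B B (g : U →ₗ[F] U)).det = 1 := by
      rw [MonoidHom.mem_ker] at hg
      rw [LinearMap.det_toMatrix, ← LinearEquiv.coe_det, hg, Units.val_one]
    obtain ⟨s, hs⟩ := ti_ext (q := q) hF (by omega) hBli (fun i j => h0 _ (B i).2 _ (B j).2) hA
    have h1 : ∀ j, act s (B j : Fin n → F) = (g (B j) : U) := by
      intro j
      rw [hs]
      have h2 := B.sum_repr (g (B j))
      have h3 := congrArg (fun x : U => (x : Fin n → F)) h2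
      simp only [Submodule.coe_sum, Submodule.coe_smul] at h3
      rw [← h3]
      refine Finset.sum_congr rfl fun i _ => ?_
      rw [LinearMap.toMatrix_apply]
      rfl
    refine ⟨s, fun v => ?_⟩
    have h4 := B.sum_repr v
    have h5 : (v : Fin n → F) = ∑ i, B.repr v i • ((B i : U) : Fin n → F) := by
      conv_lhs => rw [← h4]
      rw [Submodule.coe_sum]
      rfl
    have h6 : g v = ∑ i, B.repr v i • g (B i) := by
      conv_lhs => rw [← h4]
      rw [map_sum]
      exact Finset.sum_congr rfl fun i _ => map_smul _ _ _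
    change act s (v : Fin n → F) = ((g v : U) : Fin n → F)
    rw [h6, h5, act_sum, Submodule.coe_sum]
    exact Finset.sum_congr rfl fun i _ => by rw [act_smul, h1, Submodule.coe_smul]
  · rintro ⟨t, ht⟩
    refine hcn ⟨t, fun u hu => ?_⟩
    have h1 := hcc ⟨u, hu⟩
    rw [ht] at h1
    exact h1
  · rintro ⟨t, ht⟩
    refine hdn ⟨t, fun u hu => ?_⟩
    have h1 := hdd ⟨u, hu⟩
    rw [ht] at h1
    exact h1

theorem PE.conj (hd : PE q p d) (s : SU n F q) :
    PE q p (rho n F q s * d * (rho n F q s)⁻¹) := by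
  obtain ⟨τ, hτ⟩ := hd.si
  refine ⟨⟨τ, hτ.conj s⟩, ?_, ?_⟩
  · rw [conj_pow]
    exact isScal_conj' (si_rho s).semi hd.pw
  · intro h
    apply hd.ns
    have h1 := isScal_conj' (si_rho s⁻¹).semi h
    have h2 : rho n F q s⁻¹ * (rho n F q s * d * (rho n F q s)⁻¹) * (rho n F q s⁻¹)⁻¹ = d := by
      rw [map_inv]; group
    rwa [h2] at h1

theorem sp_ti (hF : Fintype.card F = q ^ 2) (hp : p.Prime)
    (hrow : SRow p (Matrix.ProjectiveSpecialLinearGroup (Fin 2) F)) (hc : PE q p c)
    (hd : PE q p d) (hcm : TIm q 2 c) (hdm : TIm q 2 d) : SP F p (rho n F q) c d := by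
  classical
  obtain ⟨U, hUm, hU0, hcU, hcn⟩ := hcm
  obtain ⟨W, hWm, hW0, hdW, hdn⟩ := hdm
  let A := Module.finBasisOfFinrankEq F W hWm
  let B := Module.finBasisOfFinrankEq F U hUm
  have hAli : LinearIndependent F (fun i => ((A i : W) : Fin n → F)) :=
    A.linearIndependent.map' W.subtype (Submodule.ker_subtype W)
  have hBli : LinearIndependent F (fun i => ((B i : U) : Fin n → F)) :=
    B.linearIndependent.map' U.subtype (Submodule.ker_subtype U)
  obtain ⟨s, hs⟩ := ti_move (q := q) hF (by omega) hAli hBli (fun i j => hW0 _ (A i).2 _ (A j).2)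
    (fun i j => hU0 _ (B i).2 _ (B j).2)
  have hle : Submodule.span F (Set.range fun i => ((B i : U) : Fin n → F)) ≤ U := by
    rw [Submodule.span_le]
    rintro _ ⟨i, rfl⟩
    exact (B i).2
  let L : (Fin n → F) →ₗ[F] (Fin n → F) :=
    { toFun := act s
      map_add' := act_add s
      map_smul' := fun a v => act_smul s a v }
  have hmap : W.map L = U := by
    apply Submodule.eq_of_le_of_finrank_eq
    · rintro _ ⟨w, hw, rfl⟩
      have h4 := A.sum_repr ⟨w, hw⟩
      have h5 : w = ∑ i, A.repr ⟨w, hw⟩ i • ((A i : W) : Fin n → F) := by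
        have := congrArg (fun x : W => (x : Fin n → F)) h4
        simp only [Submodule.coe_sum, Submodule.coe_smul] at this
        exact this.symm
      rw [h5]
      change act s _ ∈ U
      rw [act_sum]
      refine Submodule.sum_mem _ fun i _ => ?_
      rw [act_smul]
      exact Submodule.smul_mem _ _ (hle (hs i))
    · rw [← (Submodule.equivMapOfInjective L (act_injective s) W).finrank_eq, hWm, hUm]
  have hd2 : ∀ u, (rho n F q s * d * (rho n F q s)⁻¹) (act s u) = act s (d u) := by
    intro v
    rw [Equiv.Perm.mul_apply, Equiv.Perm.mul_apply]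
    have h1 : (rho n F q s)⁻¹ (act s v) = v := by rw [← rho_apply, inv_apply_self]
    rw [h1, rho_apply]
  refine SP.conj_right (s := s) (sp_ti_same hF hp hrow hc (hd.conj s) hUm hU0 hcU ?_ hcn ?_)
  · intro u hu
    rw [← hmap] at hu ⊢
    obtain ⟨w, hw, rfl⟩ := hu
    exact ⟨d w, hdW w hw, (hd2 w).symm⟩
  · rintro ⟨t, ht⟩
    apply hdn
    refine ⟨t, fun w hw => act_injective s ?_⟩
    have := ht (act s w) (by rw [← hmap]; exact ⟨w, hw, rfl⟩)
    rwa [hd2, ← act_smul] at this

/-- **`PSU_4(q)` in own characteristic**, semi-isometries. -/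
theorem sp_four (hF : Fintype.card F = q ^ 2) [hp : Fact p.Prime] [CharP F p] (hp5 : 5 ≤ p)
    (hrow : SRow p (Matrix.ProjectiveSpecialLinearGroup (Fin 2) F))
    {y z : Equiv.Perm (Fin 4 → F)} (hy : PE q p y) (hz : PE q p z) :
    SP F p (rho 4 F q) y z := by
  have : Nontrivial (Fin 4 → F) := Function.nontrivial
  obtain ⟨σ, hσ⟩ := hy.si
  obtain ⟨τ, hτ⟩ := hz.si
  obtain ⟨s, hs1, hs2, hs3, hs4⟩ := hy.scale hF (by omega) (by omega) hσ
  obtain ⟨t, ht1, ht2, ht3, ht4⟩ := hz.scale hF (by omega) (by omega) hτ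
  have hy' := hy.smulA hs1 hs2
  have hz' := hz.smulA ht1 ht2
  refine SP.of_scl (fun s => (si_rho s).semi) hσ.semi hτ.semi (scl_smulA s y) (scl_smulA t z) ?_
  have key : ∀ {θ : F ≃+* F} {x : Equiv.Perm (Fin 4 → F)}, SI q θ x → x ^ p = 1 → x ≠ 1 →
      (θ = 1 ∨ orderOf θ = p) → TIm q 2 x ∨ Tv q x := by
    intro θ x h1 h2 h3 h4
    rcases h4 with rfl | h
    · exact tim_or_transv hF rfl h1 h2 h3
    · exact Or.inl (ti_semi hF hp.out (by omega) h h1 h2 two_pos (by omega))
  rcases key hs1 hs2 hs3 hs4 with h1 | h1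
  · rcases key ht1 ht2 ht3 ht4 with h2 | h2
    · exact sp_ti hF hp.out hrow hy' hz' h1 h2
    · exact ⟨(ap_transv hF (by omega) hp5 h2 hy').symm, bp_own hF (by omega) hp5 hy' hz'⟩
  · exact ⟨ap_transv hF (by omega) hp5 h1 hz', bp_own hF (by omega) hp5 hy' hz'⟩

end Cfsg.Agent.H499.S5
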