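import Cfsg.Agent.H499.S5.Step
import Cfsg.Agent.H957.T5U10
import Cfsg.Agent.H716.S5.PSL

/-!
# S2274, `PSU_n(q)`, `n ≥ 5`, own characteristic: isotropic points with non-scalar action on `u^⊥ / u`
-/

set_option autoImplicit false

namespace Cfsg.Agent.H499.S5

open Cfsg Cfsg.Agent.LieClassical.HermBasic Cfsg.Agent.LieClassical.HermSiegel
open Cfsg.Agent.LieClassical.HermGen
open Cfsg.Agent.LieClassical.SUBasic Matrix
open Cfsg.Agent.H957.T5V Cfsg.Agent.H957.T5Tr Cfsg.Agent.H957.T5U Cfsg.Agent.H533.T5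
open Cfsg.Agent.H957.T5Main (not_isScal_smulA)
open Cfsg.Agent.H177.MeetPSU (rho rho_apply rho_injective)
open Cfsg.Agent.H716.S5
open Module

section field

variable {F : Type} [Field F] [Fintype F] {q : ℕ}

/-- A binary hermitian form over a finite field is isotropic. -/
theorem exists_comb (hF : Fintype.card F = q ^ 2) {α β δ : F} (hα : α ^ q = α) (hδ : δ ^ q = δ) :
    ∃ a b : F, (a ≠ 0 ∨ b ≠ 0) ∧
      a * a ^ q * α + a * b ^ q * β + b * a ^ q * β ^ q + b * b ^ q * δ = 0 := by
  by_cases h0 : δ = 0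
  · refine ⟨0, 1, Or.inr one_ne_zero, ?_⟩
    rw [h0, zero_pow_q hF]
    ring
  · obtain ⟨t, ht⟩ := exists_norm_eq hF (c := (β * β ^ q / δ - α) / δ) (by
      rw [div_pow, sub_pow_q hF, div_pow, mul_pow, pow_q_pow_q hF, hα, hδ, mul_comm (β ^ q)])
    refine ⟨1, t - β / δ, Or.inl one_ne_zero, ?_⟩
    rw [one_pow, sub_pow_q hF, div_pow, hδ]
    have h1 : t * t ^ q * δ = β * β ^ q / δ - α := by
      rw [ht, div_mul_cancel₀ _ h0]
    have h2 : β / δ * δ = β := div_mul_cancel₀ _ h0
    have h3 : β ^ q / δ * δ = β ^ q := div_mul_cancel₀ _ h0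
    have h4 : β * β ^ q / δ = β * (β ^ q / δ) := by rw [mul_div_assoc]
    rw [h4] at h1
    linear_combination h1 + (-t ^ q + β ^ q / δ) * h2 + (-t) * h3

end field

variable {F : Type} [Field F] [Fintype F] {n m q p : ℕ} {σ : F ≃+* F}
  {c : Equiv.Perm (Fin n → F)}

/-- `v ↦ h(v, u)` -/
def hl (q : ℕ) (u : Fin n → F) : (Fin n → F) →ₗ[F] F where
  toFun v := hermForm n F q v u
  map_add' v w := herm_add_left v w u
  map_smul' a v := herm_smul_left a v u

omit [Fintype F] in
theorem hl_apply (u v : Fin n → F) : hl q u v = hermForm n F q v u := rfl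

omit [Fintype F] in
theorem finrank_span_one (u : Fin n → F) : finrank F (Submodule.span F {u}) ≤ 1 := by
  by_cases hu : u = 0
  · rw [hu, Submodule.span_zero_singleton, finrank_bot]
    exact Nat.zero_le _
  · exact (finrank_span_singleton hu).le

omit [Fintype F] in
theorem finrank_ker_hl (u : Fin n → F) : n ≤ finrank F (LinearMap.ker (hl q u)) + 1 := by
  have h1 := LinearMap.finrank_range_add_finrank_ker (hl q u)
  have h2 : finrank F (LinearMap.range (hl q u)) ≤ 1 := by
    have := (LinearMap.range (hl q u)).finrank_le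
    rwa [finrank_self] at this
  rw [finrank_fin_fun] at h1
  omega

omit [Fintype F] in
theorem exists_perp_notin (hn : 3 ≤ n) (u : Fin n → F) :
    ∃ v, hermForm n F q v u = 0 ∧ v ∉ Submodule.span F {u} := by
  by_contra hcon
  push Not at hcon
  have h1 : LinearMap.ker (hl q u) ≤ Submodule.span F {u} := fun v hv => hcon v hv
  have h2 := Submodule.finrank_mono h1
  have h3 := finrank_span_one u
  have h4 := finrank_ker_hl (q := q) u
  omega

/-- Two independent vectors in a subspace of dimension at least two, combined to an isotropic one. -/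
theorem exists_iso_mem (hF : Fintype.card F = q ^ 2) {M : Submodule F (Fin n → F)}
    (hM : 2 ≤ finrank F M) : ∃ u ∈ M, u ≠ 0 ∧ hermForm n F q u u = 0 := by
  let B := finBasis F M
  have hB : LinearIndependent F (fun i => ((B i : M) : Fin n → F)) :=
    B.linearIndependent.map' M.subtype (Submodule.ker_subtype M)
  have h2 : LinearIndependent F ![((B ⟨0, by omega⟩ : M) : Fin n → F),
      ((B ⟨1, by omega⟩ : M) : Fin n → F)] := by
    have h3 := hB.comp ![⟨0, by omega⟩, ⟨1, by omega⟩] (by
      intro i j hij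
      fin_cases i <;> fin_cases j <;> simp_all)
    convert h3 using 1
    funext i
    fin_cases i <;> rfl
  set x := ((B ⟨0, by omega⟩ : M) : Fin n → F) with hx
  set y := ((B ⟨1, by omega⟩ : M) : Fin n → F) with hy
  obtain ⟨a, b, hab, h⟩ := exists_comb hF (β := hermForm n F q x y) (herm_self_pow hF x)
    (herm_self_pow hF y)
  refine ⟨a • x + b • y, Submodule.add_mem _ (Submodule.smul_mem _ _ (B ⟨0, by omega⟩).2)
    (Submodule.smul_mem _ _ (B ⟨1, by omega⟩).2), ?_, ?_⟩
  · intro h0
    obtain ⟨h4, h5⟩ := LinearIndependent.pair_iff.1 h2 a b h0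
    rcases hab with h6 | h6
    · exact h6 h4
    · exact h6 h5
  · simp only [herm_add_left, herm_add_right hF, herm_smul_left, herm_smul_right]
    rw [herm_swap hF x y]
    linear_combination h

/-- The unipotent case: the nilpotent part. -/
theorem exists_nil (hn : 0 < n) [hp : Fact p.Prime] [CharP F p]
    (hc : SI q (1 : F ≃+* F) c) (hcp : c ^ p = 1) :
    ∃ N : Module.End F (Fin n → F), (∀ v, c v = v + N v) ∧ N ^ p = 0 := by
  have : Nonempty (Fin n) := ⟨⟨0, hn⟩⟩
  have : Nontrivial (Fin n → F) := Function.nontrivial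
  have hadd := hc.semi.add
  have hsmul : ∀ (a : F) v, c (a • v) = a • c v := fun a v => hc.semi.smul a v
  let f : Module.End F (Fin n → F) :=
    { toFun := c
      map_add' := hadd
      map_smul' := hsmul }
  have hf : ∀ (k : ℕ) v, (f ^ k) v = (c ^ k) v := by
    intro k
    induction k with
    | zero => intro v; rfl
    | succ k ih =>
      intro v
      rw [pow_succ, pow_succ, Module.End.mul_apply, Equiv.Perm.mul_apply, ih]
      rfl
  have hfp : f ^ p = 1 := by
    refine LinearMap.ext fun v => ?_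
    rw [hf, hcp]
    rfl
  have : CharP (Module.End F (Fin n → F)) p :=
    charP_of_injective_algebraMap (FaithfulSMul.algebraMap_injective F _) p
  refine ⟨f - 1, fun v => ?_, ?_⟩
  · change c v = v + (c v - v)
    abel
  · rw [sub_pow_char_of_commute p (Commute.one_right _), hfp, one_pow, sub_self]

theorem nil_herm (hF : Fintype.card F = q ^ 2) (hc : SI q (1 : F ≃+* F) c)
    {N : Module.End F (Fin n → F)} (hN : ∀ v, c v = v + N v) (x y : Fin n → F) :
    hermForm n F q (N x) y + hermForm n F q x (N y) + hermForm n F q (N x) (N y) = 0 := by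
  have h1 : hermForm n F q (c x) (c y) = hermForm n F q x y := hc.herm x y
  rw [hN, hN] at h1
  simp only [herm_add_left, herm_add_right hF] at h1
  linear_combination h1

theorem nil_perp (hF : Fintype.card F = q ^ 2) (hc : SI q (1 : F ≃+* F) c)
    {N : Module.End F (Fin n → F)} (hN : ∀ v, c v = v + N v) (x : Fin n → F) {y : Fin n → F}
    (hy : N y = 0) : hermForm n F q (N x) y = 0 := by
  have h1 := nil_herm hF hc hN x y
  rw [hy, herm_zero_right hF, herm_zero_right hF] at h1
  linear_combination h1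

theorem nil_perp2 (hF : Fintype.card F = q ^ 2) (hc : SI q (1 : F ≃+* F) c)
    {N : Module.End F (Fin n → F)} (hN : ∀ v, c v = v + N v) (x : Fin n → F) {y : Fin n → F}
    (hy : N (N y) = 0) : hermForm n F q (N (N x)) y = 0 := by
  have h1 := nil_herm hF hc hN (N x) y
  rw [nil_perp hF hc hN x hy, nil_perp hF hc hN (N x) hy] at h1
  linear_combination h1

/-- The last nonzero power. -/
theorem exists_last {N : Module.End F (Fin n → F)} {k : ℕ} (hk : N ^ k = 0) (h0 : N ≠ 0) :
    ∃ (j : ℕ) (v : Fin n → F), (N ^ (j + 1)) v ≠ 0 ∧ N ^ (j + 2) = 0 := by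
  classical
  have hex : ∃ k, N ^ k = 0 := ⟨k, hk⟩
  set l := Nat.find hex with hl
  have h1 : N ^ l = 0 := Nat.find_spec hex
  have h2 : 2 ≤ l := by
    rcases Nat.lt_or_ge l 2 with h | h
    · exfalso
      have h3 : l = 0 ∨ l = 1 := by omega
      rcases h3 with h3 | h3
      · rw [h3, pow_zero] at h1
        apply h0
        rw [← one_mul N, h1, zero_mul]
      · rw [h3, pow_one] at h1
        exact h0 h1
    · exact h
  obtain ⟨j, hj⟩ := Nat.exists_eq_add_of_le' h2
  have h3 : N ^ (j + 1) ≠ 0 := Nat.find_min hex (by omega)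
  obtain ⟨v, hv⟩ : ∃ v, (N ^ (j + 1)) v ≠ 0 := by
    by_contra hcon
    push Not at hcon
    exact h3 (LinearMap.ext hcon)
  exact ⟨j, v, hv, by rw [← hj]; exact h1⟩

/-- If `h(w, N w) = 0` for all `w` then `N = 0`. -/
theorem eq_zero_of_herm (hF : Fintype.card F = q ^ 2) {N : Module.End F (Fin n → F)}
    (h : ∀ w, hermForm n F q w (N w) = 0) : N = 0 := by
  obtain ⟨t, ht⟩ := exists_not_fixed hF
  refine LinearMap.ext fun y => herm_nondeg hF fun x => ?_
  have key : ∀ x y, hermForm n F q x (N y) + hermForm n F q y (N x) = 0 := by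
    intro x y
    have h1 := h (x + y)
    rw [map_add] at h1
    simp only [herm_add_left, herm_add_right hF, h] at h1
    linear_combination h1
  have h1 := key x y
  have h2 := key x (t • y)
  rw [map_smul, herm_smul_left, herm_smul_right] at h2
  have h3 : (t ^ q - t) * hermForm n F q x (N y) = 0 := by linear_combination h2 - t * h1
  have h4 := (mul_eq_zero.1 h3).resolve_left (sub_ne_zero.2 ht)
  exact herm_eq_zero_swap hF h4

/-- The eigenvalue modulo `u` is `1`. -/
theorem eq_one_mod [hp : Fact p.Prime] [CharP F p] (hc : SI q (1 : F ≃+* F) c) (hcp : c ^ p = 1)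
    {u v : Fin n → F} (hu : c u = u) (hv : v ∉ Submodule.span F {u}) {a b : F}
    (h : c v = a • v + b • u) : a = 1 := by
  have h1 : ∀ k : ℕ, ∃ e : F, (c ^ k) v = a ^ k • v + e • u := by
    intro k
    induction k with
    | zero => exact ⟨0, by rw [pow_zero, pow_zero, one_smul, zero_smul, add_zero]; rfl⟩
    | succ k ih =>
      obtain ⟨e, he⟩ := ih
      refine ⟨a ^ k * b + e, ?_⟩
      rw [pow_succ', Equiv.Perm.mul_apply, he, hc.semi.add, hc.semi.smul, hc.semi.smul, hu, h]
      have h2 : ∀ x : F, (1 : F ≃+* F) x = x := fun _ => rfl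
      rw [h2, h2, pow_succ]
      module
  obtain ⟨e, he⟩ := h1 p
  rw [hcp] at he
  have h2 : (1 - a ^ p) • v = e • u := by
    rw [sub_smul, one_smul, sub_eq_iff_eq_add, add_comm]
    exact he
  have h3 : 1 - a ^ p = 0 := by
    by_contra h0
    apply hv
    rw [Submodule.mem_span_singleton]
    exact ⟨(1 - a ^ p)⁻¹ * e, by rw [mul_smul, ← h2, inv_smul_smul₀ h0]⟩
  have h4 : (1 - a) ^ p = 0 := by
    rw [sub_pow_char, one_pow, h3]
  exact (sub_eq_zero.1 (pow_eq_zero_iff hp.out.ne_zero |>.1 h4)).symm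

/-- **The unipotent elements, `n ≥ 5`.** -/
theorem pt_lin (hF : Fintype.card F = q ^ 2) (hn : 5 ≤ n) [hp : Fact p.Prime] [CharP F p]
    (hc : SI q (1 : F ≃+* F) c) (hcp : c ^ p = 1) (hc1 : c ≠ 1) : PT q c := by
  obtain ⟨N, hN, hNp⟩ := exists_nil (by omega) hc hcp
  have hN0 : N ≠ 0 := by
    rintro rfl
    apply hc1
    ext1 v
    rw [hN]
    change v + 0 = v
    rw [add_zero]
  have hfix : ∀ u, N u = 0 → c u = u := fun u hu => by rw [hN, hu, add_zero]
  by_cases h3 : 3 ≤ finrank F (LinearMap.ker N)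
  · obtain ⟨w, hw⟩ : ∃ w, hermForm n F q w (N w) ≠ 0 := by
      by_contra hcon
      push Not at hcon
      exact hN0 (eq_zero_of_herm hF hcon)
    have h4 : 2 ≤ finrank F ((LinearMap.ker N ⊓ LinearMap.ker (hl q w) :
        Submodule F (Fin n → F))) := by
      have h5 := Submodule.finrank_sup_add_finrank_inf_eq (LinearMap.ker N)
        (LinearMap.ker (hl q w))
      have h6 := finrank_ker_hl (q := q) w
      have h7 := (LinearMap.ker N ⊔ LinearMap.ker (hl q w)).finrank_le
      rw [finrank_fin_fun] at h7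
      omega
    obtain ⟨u, hu, hu0, huu⟩ := exists_iso_mem hF h4
    have hNu : N u = 0 := hu.1
    have huw : hermForm n F q u w = 0 := hu.2
    refine ⟨u, hu0, huu, ⟨1, by rw [hfix u hNu, one_smul]⟩, ?_⟩
    rintro ⟨a, ha⟩
    obtain ⟨b, hb⟩ := ha w (herm_eq_zero_swap hF huw)
    have hwu : w ∉ Submodule.span F {u} := by
      intro h
      obtain ⟨t, rfl⟩ := Submodule.mem_span_singleton.1 h
      apply hw
      rw [map_smul, hNu, smul_zero, herm_zero_right hF]
    have ha1 := eq_one_mod hc hcp (hfix u hNu) hwu hb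
    rw [ha1, one_smul, hN] at hb
    have h5 : N w = b • u := add_left_cancel hb
    apply hw
    rw [h5, herm_smul_right, herm_eq_zero_swap hF huw, mul_zero]
  · obtain ⟨j, v, hv, hj⟩ := exists_last hNp hN0
    set u := (N ^ (j + 1)) v with hu
    have hNu : N u = 0 := by
      have h4 : (N ^ (j + 2)) v = N u := by
        rw [hu, pow_succ' N (j + 1)]
        rfl
      rw [← h4, hj]
      rfl
    have huu : hermForm n F q u u = 0 := by
      have h4 : u = N ((N ^ j) v) := by rw [hu, pow_succ']; rfl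
      conv_lhs => rw [h4]
      rw [← h4]
      nth_rw 1 [h4]
      exact nil_perp hF hc hN _ hNu
    refine ⟨u, hv, huu, ⟨1, by rw [hfix u hNu, one_smul]⟩, ?_⟩
    rintro ⟨a, ha⟩
    obtain ⟨w, hw, hwu⟩ := exists_perp_notin (q := q) (by omega) u
    obtain ⟨b, hb⟩ := ha w hw
    have ha1 := eq_one_mod hc hcp (hfix u hNu) hwu hb
    subst ha1
    have h5 : ∀ x : LinearMap.ker (hl q u), N x ∈ Submodule.span F {u} := by
      intro x
      obtain ⟨b, hb⟩ := ha x x.2
      rw [one_smul, hN] at hb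
      rw [add_left_cancel hb]
      exact Submodule.smul_mem _ _ (Submodule.mem_span_singleton_self u)
    let f : LinearMap.ker (hl q u) →ₗ[F] Submodule.span F {u} :=
      (N.domRestrict (LinearMap.ker (hl q u))).codRestrict _ h5
    have h6 := LinearMap.finrank_range_add_finrank_ker f
    have h7 : finrank F (LinearMap.range f) ≤ 1 :=
      (Submodule.finrank_le _).trans (finrank_span_one u)
    have h8 : finrank F (LinearMap.ker f) ≤ finrank F (LinearMap.ker N) := by
      let g : LinearMap.ker f →ₗ[F] LinearMap.ker N :=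
        ((LinearMap.ker (hl q u)).subtype.domRestrict (LinearMap.ker f)).codRestrict _ (fun x => by
          have h9 : f (x : LinearMap.ker (hl q u)) = 0 := x.2
          have h10 := congrArg (fun z : Submodule.span F {u} => (z : Fin n → F)) h9
          exact h10)
      refine LinearMap.finrank_le_finrank_of_injective (f := g) (fun x y hxy => ?_)
      apply Subtype.ext
      apply Subtype.ext
      exact congrArg (fun z : LinearMap.ker N => (z : Fin n → F)) hxy
    have h9 := finrank_ker_hl (q := q) u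
    omega

/-- **The properly semilinear elements, `n ≥ 3`.** -/
theorem pt_semi (hF : Fintype.card F = q ^ 2) (hn : 3 ≤ n) (hp : p.Prime) (hp3 : 3 ≤ p)
    (hσ : orderOf σ = p) (hc : SI q σ c) (hcp : c ^ p = 1) : PT q c := by
  obtain ⟨U, hU1, hU0, hcU, -⟩ := ti_semi hF hp hp3 hσ hc hcp (m := 1) one_pos (by omega)
  obtain ⟨⟨u, huU⟩, hu0, hu⟩ := finrank_eq_one_iff'.1 hU1
  have hu0' : u ≠ 0 := fun h => hu0 (Subtype.ext h)
  have hcu : ∃ a : F, c u = a • u := by
    obtain ⟨a, ha⟩ := hu ⟨c u, hcU u huU⟩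
    exact ⟨a, (congrArg (fun z : U => (z : Fin n → F)) ha).symm⟩
  refine ⟨u, hu0', hU0 u huU u huU, hcu, ?_⟩
  rintro ⟨a, ha⟩
  obtain ⟨a0, ha0⟩ := hcu
  obtain ⟨w, hw, hwu⟩ := exists_perp_notin (q := q) hn u
  obtain ⟨b, hb⟩ := ha w hw
  have hane : a ≠ 0 := by
    rintro rfl
    rw [zero_smul, zero_add] at hb
    have ha00 : a0 ≠ 0 := by
      rintro rfl
      rw [zero_smul] at ha0
      exact hu0' (c.injective (ha0.trans hc.semi.zero.symm))
    apply hwu
    rw [Submodule.mem_span_singleton]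
    refine ⟨σ.symm (b * a0⁻¹), c.injective ?_⟩
    rw [hc.semi.smul, ha0, hb, RingEquiv.apply_symm_apply, smul_smul, mul_assoc,
      inv_mul_cancel₀ ha00, mul_one]
  have h1 : σ = 1 := by
    ext t
    obtain ⟨b', hb'⟩ := ha (t • w) (by rw [herm_smul_left, hw, mul_zero])
    rw [hc.semi.smul, hb] at hb'
    have h2 : (a * (σ t - t)) • w = (b' - σ t * b) • u := by
      have h3 : σ t • (a • w + b • u) - a • t • w - σ t • b • u = b' • u - σ t • b • u := by
        rw [hb']; abel
      calc (a * (σ t - t)) • w = σ t • (a • w + b • u) - a • t • w - σ t • b • u := by module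
        _ = b' • u - σ t • b • u := h3
        _ = _ := by module
    have h3 : a * (σ t - t) = 0 := by
      by_contra h0
      apply hwu
      rw [Submodule.mem_span_singleton]
      exact ⟨(a * (σ t - t))⁻¹ * (b' - σ t * b), by rw [mul_smul, ← h2, inv_smul_smul₀ h0]⟩
    exact sub_eq_zero.1 ((mul_eq_zero.1 h3).resolve_left hane)
  rw [h1, orderOf_one] at hσ
  exact hp.one_lt.ne hσ

/-- **Normalisation** in own characteristic. -/
theorem PE.scale (hF : Fintype.card F = q ^ 2) (hn : 0 < n) [hp : Fact p.Prime] [CharP F p]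
    (hp2 : p ≠ 2) (hc : PE q p c) (hσ : SI q σ c) :
    ∃ s : Fˣ, SI q σ (smulA s c) ∧ (smulA s c) ^ p = 1 ∧ (smulA s c) ≠ 1 ∧
      (σ = 1 ∨ orderOf σ = p) := by
  have : Nonempty (Fin n) := ⟨⟨0, hn⟩⟩
  have : Nontrivial (Fin n → F) := Function.nontrivial
  have hσp : σ ^ p = 1 := by
    by_contra h
    exact not_isScal_semi (hσ.pow p).semi h hc.pw
  have hne : ∀ s : Fˣ, smulA s c ≠ 1 := by
    intro s h
    apply not_isScal_smulA hc.ns (s := s)
    rw [h]
    exact ⟨1, fun v => (one_smul F v).symm⟩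
  by_cases h1 : σ = 1
  · subst h1
    have hpq : p ∣ q := Cfsg.Agent.ClassicalGeometry.PSUAutSylow.prime_dvd_q p hF
    rcases scale_lin hF hn hp.out hp2 hσ hc.pw with ⟨s, hs, hsp⟩ | ⟨h2, -⟩
    · exact ⟨s, hσ.smulA hs, hsp, hne s, Or.inl rfl⟩
    · exfalso
      have h3 : p ∣ 1 := by
        have := Nat.dvd_sub h2 hpq
        rwa [Nat.add_sub_cancel_left] at this
      exact hp.out.one_lt.ne' (Nat.dvd_one.1 h3)
  · have h2 : orderOf σ = p := orderOf_eq_prime hσp h1
    obtain ⟨s, hs, hsp⟩ := scale_semi hF hn hp.out hp2 h2 hσ hc.pw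
    exact ⟨s, hσ.smulA hs, hsp, hne s, Or.inr h2⟩

theorem PE.smulA (hc : PE q p c) {s : Fˣ} (h : SI q σ (smulA s c)) (hp : (smulA s c) ^ p = 1) :
    PE q p (smulA s c) :=
  ⟨⟨σ, h⟩, by rw [hp]; exact ⟨1, fun v => (one_smul F v).symm⟩, not_isScal_smulA hc.ns⟩

/-- **The step in own characteristic.** -/
theorem sp_step_own (hF : Fintype.card F = q ^ 2) (hm : 3 ≤ m) [hp : Fact p.Prime] [CharP F p]
    (hp5 : 5 ≤ p)
    (hcore : ∀ y z : Equiv.Perm (Fin m → F), PE q p y → PE q p z → SP F p (rho m F q) y z)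
    {y z : Equiv.Perm (Fin (m + 2) → F)} (hy : PE q p y) (hz : PE q p z) :
    SP F p (rho (m + 2) F q) y z := by
  have : Nontrivial (Fin (m + 2) → F) := Function.nontrivial
  obtain ⟨σ, hσ⟩ := hy.si
  obtain ⟨τ, hτ⟩ := hz.si
  obtain ⟨s, hs1, hs2, hs3, hs4⟩ := hy.scale hF (by omega) (by omega) hσ
  obtain ⟨t, ht1, ht2, ht3, ht4⟩ := hz.scale hF (by omega) (by omega) hτ
  refine SP.of_scl (fun s => (si_rho s).semi) hσ.semi hτ.semi (scl_smulA s y) (scl_smulA t z)
    (sp_step hF (by omega) hcore (hy.smulA hs1 hs2) (hz.smulA ht1 ht2) ?_ ?_)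
  · rcases hs4 with rfl | h
    · exact pt_lin hF (by omega) hs1 hs2 hs3
    · exact pt_semi hF (by omega) hp.out (by omega) h hs1 hs2
  · rcases ht4 with rfl | h
    · exact pt_lin hF (by omega) ht1 ht2 ht3
    · exact pt_semi hF (by omega) hp.out (by omega) h ht1 ht2

end Cfsg.Agent.H499.S5
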