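import Mathlib

/-!
# Solvability along a relation; two opposite transvections of a plane
-/

set_option autoImplicit false

namespace Cfsg.Agent.H499.S5

section rel

variable {A B : Type*} [Group A] [Group B]

theorem isSolvable_of_le' {G : Type*} [Group G] {H K : Subgroup G} (h : H ≤ K)
    (hK : Group.IsSolvable ↥K) : Group.IsSolvable ↥H :=
  Group.isSolvable_of_isSolvable_injective (f := Subgroup.inclusion h)
    (Subgroup.inclusion_injective h)

/-- If `(a₁, b₁)`, `(a₂, b₂)` are in a subgroup of `A × B` whose elements `(a, 1)` lie over a solvable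
subgroup and `⟨b₁, b₂⟩` is solvable, then `⟨a₁, a₂⟩` is solvable. -/
theorem isSolvable_of_rel (R : Subgroup (A × B)) (Z : Subgroup A) (hZ : Group.IsSolvable ↥Z)
    (hker : ∀ a, (a, (1 : B)) ∈ R → a ∈ Z) {a₁ a₂ : A} {b₁ b₂ : B} (h₁ : (a₁, b₁) ∈ R)
    (h₂ : (a₂, b₂) ∈ R) (hs : Group.IsSolvable ↥(Subgroup.closure ({b₁, b₂} : Set B))) :
    Group.IsSolvable ↥(Subgroup.closure ({a₁, a₂} : Set A)) := by
  set C : Subgroup (A × B) := Subgroup.closure {(a₁, b₁), (a₂, b₂)} with hC
  have hCR : C ≤ R := by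
    rw [hC, Subgroup.closure_le]
    rintro x (rfl | rfl)
    · exact h₁
    · exact h₂
  have hCB : ∀ x ∈ C, x.2 ∈ Subgroup.closure ({b₁, b₂} : Set B) := by
    intro x hx
    have h1 : C ≤ (Subgroup.closure ({b₁, b₂} : Set B)).comap (MonoidHom.snd A B) := by
      rw [hC, Subgroup.closure_le]
      rintro x (rfl | rfl)
      · exact Subgroup.subset_closure (by simp)
      · exact Subgroup.subset_closure (by simp)
    exact h1 hx
  -- the projection to `B`
  let f : ↥C →* ↥(Subgroup.closure ({b₁, b₂} : Set B)) :=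
    ((MonoidHom.snd A B).comp C.subtype).codRestrict _ (fun x => hCB x x.2)
  -- the kernel
  let ι : ↥Z →* A × B := (MonoidHom.inl A B).comp Z.subtype
  let K : Subgroup ↥C := (ι.range).subgroupOf C
  have hK : Group.IsSolvable ↥K := by
    have h1 : Group.IsSolvable ↥ι.range :=
      Group.isSolvable_of_surjective (f := ι.rangeRestrict) ι.rangeRestrict_surjective
    let g : ↥K →* ↥ι.range :=
      ((C.subtype).comp K.subtype).codRestrict _ (fun x => x.2)
    exact Group.isSolvable_of_isSolvable_injective (f := g) (fun x y hxy => by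
      apply Subtype.ext
      apply Subtype.ext
      exact congrArg (fun z : ↥ι.range => (z : A × B)) hxy)
  have hsC : Group.IsSolvable ↥C := by
    refine Group.isSolvable_of_ker_le_range K.subtype f ?_
    intro x hx
    rw [MonoidHom.mem_ker] at hx
    have h1 : (x : A × B).2 = 1 := congrArg (fun z : ↥(Subgroup.closure ({b₁, b₂} : Set B)) =>
      (z : B)) hx
    have h2 : (x : A × B) = ((x : A × B).1, 1) := by
      rw [← h1]
    have h3 : (x : A × B).1 ∈ Z := hker _ (by rw [← h2]; exact hCR x.2)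
    refine ⟨⟨x, ?_⟩, rfl⟩
    change (x : A × B) ∈ ι.range
    exact ⟨⟨_, h3⟩, h2.symm⟩
  have hmap : Subgroup.closure ({a₁, a₂} : Set A) = C.map (MonoidHom.fst A B) := by
    rw [hC, MonoidHom.map_closure, Set.image_pair]
    rfl
  rw [hmap]
  exact Group.isSolvable_of_surjective (f := (MonoidHom.fst A B).subgroupMap C)
    ((MonoidHom.fst A B).subgroupMap_surjective _)

/-- The version with trivial kernel. -/
theorem isSolvable_of_rel' (R : Subgroup (A × B)) (hker : ∀ a, (a, (1 : B)) ∈ R → a = 1)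
    {a₁ a₂ : A} {b₁ b₂ : B} (h₁ : (a₁, b₁) ∈ R) (h₂ : (a₂, b₂) ∈ R)
    (hs : Group.IsSolvable ↥(Subgroup.closure ({b₁, b₂} : Set B))) :
    Group.IsSolvable ↥(Subgroup.closure ({a₁, a₂} : Set A)) :=
  isSolvable_of_rel R ⊥ inferInstance (fun a ha => by rw [hker a ha]; exact one_mem _) h₁ h₂ hs

end rel

/-! ### Opposite transvections -/

section sl

variable {F : Type*} [Field F]

open Matrix
open scoped commutatorElement

theorem twoTrans_key {A : Subgroup (SpecialLinearGroup (Fin 2) F)} (h2 : (2 : F) ≠ 0)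
    (h3 : (3 : F) ≠ 0) {x : SpecialLinearGroup (Fin 2) F} {t : F} (ht : t ≠ 0)
    (hx : (x : Matrix (Fin 2) (Fin 2) F) = !![1, t; 0, 1])
    (hxA : ∀ a ∈ A, x * a * x⁻¹ ∈ A)
    (hAA : ∀ a ∈ A, ∀ b ∈ A, a * b = b * a ∨ a * b = - (b * a)) :
    ∀ a ∈ A, (a : Matrix (Fin 2) (Fin 2) F) 1 0 = 0 := by
  intro a ha
  by_contra hk
  obtain ⟨α, β, κ, δ, hM⟩ : ∃ α β κ δ : F, (a : Matrix (Fin 2) (Fin 2) F) = !![α, β; κ, δ] :=
    ⟨_, _, _, _, Matrix.eta_fin_two _⟩
  have hk' : κ ≠ 0 := by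
    rw [hM] at hk
    simpa using hk
  have hdet : α * δ - β * κ = 1 := by
    have h1 := a.2
    rw [hM, Matrix.det_fin_two_of] at h1
    exact h1
  -- the conjugates
  have hconj : ∀ (y : SpecialLinearGroup (Fin 2) F) (s : F),
      (y : Matrix (Fin 2) (Fin 2) F) = !![1, s; 0, 1] →
      ((y * a * y⁻¹ : SpecialLinearGroup (Fin 2) F) : Matrix (Fin 2) (Fin 2) F) =
        !![α + s * κ, β + s * δ - s * (α + s * κ); κ, δ - s * κ] := by
    intro y s hy
    rw [Matrix.SpecialLinearGroup.coe_mul, Matrix.SpecialLinearGroup.coe_mul, Matrix.SpecialLinearGroup.coe_inv, hy, hM,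
      Matrix.adjugate_fin_two_of]
    ext i j
    fin_cases i <;> fin_cases j <;> simp [Matrix.mul_apply, Fin.sum_univ_two] <;> ring
  have step : ∀ (y : SpecialLinearGroup (Fin 2) F) (s : F), s ≠ 0 →
      (y : Matrix (Fin 2) (Fin 2) F) = !![1, s; 0, 1] → y * a * y⁻¹ ∈ A →
      δ = -α ∧ s ^ 2 * κ ^ 2 = -2 := by
    intro y s hs hy hya
    have hc := hconj y s hy
    rcases hAA _ hya a ha with h | h
    · exfalso
      have h1 := congrArg (fun z : SpecialLinearGroup (Fin 2) F =>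
        (z : Matrix (Fin 2) (Fin 2) F) 1 0) h
      rw [Matrix.SpecialLinearGroup.coe_mul _ a, Matrix.SpecialLinearGroup.coe_mul a _] at h1
      rw [hc, hM] at h1
      simp [Matrix.mul_apply, Fin.sum_univ_two] at h1
      have h4 : 2 * s * κ ^ 2 = 0 := by linear_combination (-1) * h1
      rcases mul_eq_zero.1 h4 with h5 | h5
      · rcases mul_eq_zero.1 h5 with h6 | h6
        · exact h2 h6
        · exact hs h6
      · exact hk' (pow_eq_zero_iff (two_ne_zero) |>.1 h5)
    · have h1 : ∀ i j, ((y * a * y⁻¹ * a : SpecialLinearGroup (Fin 2) F) :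
          Matrix (Fin 2) (Fin 2) F) i j = - ((a * (y * a * y⁻¹) : SpecialLinearGroup (Fin 2) F) :
          Matrix (Fin 2) (Fin 2) F) i j := by
        intro i j
        rw [h]
        rfl
      have e10 := h1 1 0
      have e00 := h1 0 0
      have e11 := h1 1 1
      rw [Matrix.SpecialLinearGroup.coe_mul _ a, Matrix.SpecialLinearGroup.coe_mul a _] at e10 e00 e11
      rw [hc, hM] at e10 e00 e11
      simp [Matrix.mul_apply, Fin.sum_univ_two] at e10 e00 e11
      have h5 : δ = -α := by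
        have h6 : 2 * κ * (α + δ) = 0 := by linear_combination e10
        rcases mul_eq_zero.1 h6 with h7 | h7
        · rcases mul_eq_zero.1 h7 with h8 | h8
          · exact absurd h8 h2
          · exact absurd h8 hk'
        · linear_combination h7
      refine ⟨h5, ?_⟩
      subst h5
      have h6 : 2 * (-2 - s ^ 2 * κ ^ 2) = 0 := by
        linear_combination e00 + e11 + 4 * hdet
      rcases mul_eq_zero.1 h6 with h7 | h7
      · exact absurd h7 h2
      · linear_combination -h7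
  obtain ⟨-, e1⟩ := step x t ht hx (hxA a ha)
  obtain ⟨-, e2⟩ := step (x * x) (2 * t) (mul_ne_zero h2 ht) (by
    rw [Matrix.SpecialLinearGroup.coe_mul, hx]
    ext i j
    fin_cases i <;> fin_cases j <;> simp [Matrix.mul_apply, Fin.sum_univ_two] <;> ring) (by
    have h1 := hxA _ (hxA a ha)
    have h4 : x * (x * a * x⁻¹) * x⁻¹ = x * x * a * (x * x)⁻¹ := by group
    rwa [h4] at h1)
  have h4 : 2 * 3 = (0 : F) := by linear_combination 4 * e1 - e2
  rcases mul_eq_zero.1 h4 with h5 | h5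
  · exact h2 h5
  · exact h3 h5


theorem twoTrans_key' {A : Subgroup (SpecialLinearGroup (Fin 2) F)} (h2 : (2 : F) ≠ 0)
    (h3 : (3 : F) ≠ 0) {x : SpecialLinearGroup (Fin 2) F} {t : F} (ht : t ≠ 0)
    (hx : (x : Matrix (Fin 2) (Fin 2) F) = !![1, 0; t, 1])
    (hxA : ∀ a ∈ A, x * a * x⁻¹ ∈ A)
    (hAA : ∀ a ∈ A, ∀ b ∈ A, a * b = b * a ∨ a * b = - (b * a)) :
    ∀ a ∈ A, (a : Matrix (Fin 2) (Fin 2) F) 0 1 = 0 := by
  intro a ha
  let w : SpecialLinearGroup (Fin 2) F := ⟨!![0, 1; -1, 0], by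
    rw [Matrix.det_fin_two_of]; ring⟩
  have hw : (w : Matrix (Fin 2) (Fin 2) F) = !![0, 1; -1, 0] := rfl
  have hconj : ∀ b : SpecialLinearGroup (Fin 2) F,
      ((w * b * w⁻¹ : SpecialLinearGroup (Fin 2) F) : Matrix (Fin 2) (Fin 2) F) =
        !![(b : Matrix (Fin 2) (Fin 2) F) 1 1, -(b : Matrix (Fin 2) (Fin 2) F) 1 0;
          -(b : Matrix (Fin 2) (Fin 2) F) 0 1, (b : Matrix (Fin 2) (Fin 2) F) 0 0] := by
    intro b
    obtain ⟨α, β, κ, δ, hM⟩ : ∃ α β κ δ : F, (b : Matrix (Fin 2) (Fin 2) F) = !![α, β; κ, δ] :=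
      ⟨_, _, _, _, Matrix.eta_fin_two _⟩
    rw [Matrix.SpecialLinearGroup.coe_mul, Matrix.SpecialLinearGroup.coe_mul,
      Matrix.SpecialLinearGroup.coe_inv, hw, hM, Matrix.adjugate_fin_two_of]
    ext i j
    fin_cases i <;> fin_cases j <;> simp [Matrix.mul_apply, Fin.sum_univ_two]
  have h := twoTrans_key (A := A.map (MulAut.conj w).toMonoidHom) h2 h3 (x := w * x * w⁻¹)
    (t := -t) (neg_ne_zero.2 ht) (by rw [hconj, hx]; simp) (by
      rintro _ ⟨b, hb, rfl⟩
      refine ⟨x * b * x⁻¹, hxA b hb, ?_⟩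
      change w * (x * b * x⁻¹) * w⁻¹ = w * x * w⁻¹ * (w * b * w⁻¹) * (w * x * w⁻¹)⁻¹
      group) (by
      rintro _ ⟨b, hb, rfl⟩ _ ⟨c, hc, rfl⟩
      change w * b * w⁻¹ * (w * c * w⁻¹) = w * c * w⁻¹ * (w * b * w⁻¹) ∨
        w * b * w⁻¹ * (w * c * w⁻¹) = -(w * c * w⁻¹ * (w * b * w⁻¹))
      have e1 : w * b * w⁻¹ * (w * c * w⁻¹) = w * (b * c) * w⁻¹ := by group
      have e2 : w * c * w⁻¹ * (w * b * w⁻¹) = w * (c * b) * w⁻¹ := by group
      rw [e1, e2]
      rcases hAA b hb c hc with h4 | h4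
      · left; rw [h4]
      · right; rw [h4, mul_neg, neg_mul]) (w * a * w⁻¹) ⟨a, ha, rfl⟩
  rw [hconj] at h
  simpa using h

/-- Two opposite transvections generate a non-solvable group (characteristic not `2`, `3`). -/
theorem not_isSolvable_twoTrans (h2 : (2 : F) ≠ 0) (h3 : (3 : F) ≠ 0)
    {x y : SpecialLinearGroup (Fin 2) F} {t s : F} (ht : t ≠ 0) (hs : s ≠ 0)
    (hx : (x : Matrix (Fin 2) (Fin 2) F) = !![1, t; 0, 1])
    (hy : (y : Matrix (Fin 2) (Fin 2) F) = !![1, 0; s, 1]) :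
    ¬ Group.IsSolvable ↥(Subgroup.closure ({x, y} : Set (SpecialLinearGroup (Fin 2) F))) := by
  intro hsol
  set G := Subgroup.closure ({x, y} : Set (SpecialLinearGroup (Fin 2) F)) with hG
  have hxG : x ∈ G := Subgroup.subset_closure (by simp)
  have hyG : y ∈ G := Subgroup.subset_closure (by simp)
  have hex : ∃ n, ∀ g ∈ derivedSeries ↥G n, (g : SpecialLinearGroup (Fin 2) F) = 1 ∨
      (g : SpecialLinearGroup (Fin 2) F) = -1 := by
    obtain ⟨n, hn⟩ := (Group.isSolvable_def ↥G).1 hsol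
    refine ⟨n, fun g hg => ?_⟩
    rw [hn, Subgroup.mem_bot] at hg
    left
    rw [hg]; rfl
  classical
  obtain ⟨n, hn, hmin⟩ : ∃ n, (∀ g ∈ derivedSeries ↥G n, (g : SpecialLinearGroup (Fin 2) F) = 1 ∨
      (g : SpecialLinearGroup (Fin 2) F) = -1) ∧ ∀ m < n, ¬ ∀ g ∈ derivedSeries ↥G m,
        (g : SpecialLinearGroup (Fin 2) F) = 1 ∨ (g : SpecialLinearGroup (Fin 2) F) = -1 :=
    ⟨Nat.find hex, Nat.find_spec hex, fun m hm => Nat.find_min hex hm⟩
  rcases n with _ | n
  · rcases hn ⟨x, hxG⟩ (by rw [derivedSeries_zero]; trivial) with h | h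
    · have h1 := congrArg (fun z : SpecialLinearGroup (Fin 2) F =>
        (z : Matrix (Fin 2) (Fin 2) F) 0 1) h
      simp only [hx] at h1
      simp at h1
      exact ht h1
    · have h1 := congrArg (fun z : SpecialLinearGroup (Fin 2) F =>
        (z : Matrix (Fin 2) (Fin 2) F) 0 1) h
      simp only [hx] at h1
      simp at h1
      exact ht h1
  · set A : Subgroup (SpecialLinearGroup (Fin 2) F) := (derivedSeries ↥G n).map G.subtype with hA
    have hnorm : ∀ g ∈ G, ∀ a ∈ A, g * a * g⁻¹ ∈ A := by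
      rintro g hg _ ⟨a, ha, rfl⟩
      let g' : ↥G := ⟨g, hg⟩
      have h1 : g' * a * g'⁻¹ ∈ derivedSeries ↥G n := by
        have := derivedSeries_normal ↥G n
        exact this.conj_mem a ha g'
      exact Subgroup.mem_map.2 ⟨g' * a * g'⁻¹, h1, rfl⟩
    have hAA : ∀ a ∈ A, ∀ b ∈ A, a * b = b * a ∨ a * b = - (b * a) := by
      rintro _ ⟨a, ha, rfl⟩ _ ⟨b, hb, rfl⟩
      have h1 : ⁅a, b⁆ ∈ derivedSeries ↥G (n + 1) := by
        rw [derivedSeries_succ]
        exact Subgroup.commutator_mem_commutator ha hb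
      have h4 : (a : SpecialLinearGroup (Fin 2) F) * (b : SpecialLinearGroup (Fin 2) F) =
          ((⁅a, b⁆ : ↥G) : SpecialLinearGroup (Fin 2) F) *
            ((b : SpecialLinearGroup (Fin 2) F) * (a : SpecialLinearGroup (Fin 2) F)) := by
        have h6 : a * b = ⁅a, b⁆ * (b * a) := by
          rw [commutatorElement_def]; group
        exact congrArg (fun z : ↥G => (z : SpecialLinearGroup (Fin 2) F)) h6
      have h5 := hn _ h1
      generalize ((⁅a, b⁆ : ↥G) : SpecialLinearGroup (Fin 2) F) = w at h4 h5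
      rcases h5 with h5 | h5
      · left
        rw [h5, one_mul] at h4
        exact h4
      · right
        rw [h5, neg_one_mul] at h4
        exact h4
    have e1 := twoTrans_key h2 h3 ht hx (hnorm x hxG) hAA
    have e2 := twoTrans_key' h2 h3 hs hy (hnorm y hyG) hAA
    apply hmin n (Nat.lt_succ_self n)
    intro g hg
    have hgA : (g : SpecialLinearGroup (Fin 2) F) ∈ A := ⟨g, hg, rfl⟩
    set a : SpecialLinearGroup (Fin 2) F := (g : SpecialLinearGroup (Fin 2) F) with ha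
    have hxa := e2 _ (hnorm x hxG a hgA)
    have h10 := e1 a hgA
    have h01 := e2 a hgA
    obtain ⟨α, β, κ, δ, hM⟩ : ∃ α β κ δ : F, (a : Matrix (Fin 2) (Fin 2) F) = !![α, β; κ, δ] :=
      ⟨_, _, _, _, Matrix.eta_fin_two _⟩
    have hβ : β = 0 := by rw [hM] at h01; simpa using h01
    have hκ : κ = 0 := by rw [hM] at h10; simpa using h10
    subst hβ hκ
    have hdet : α * δ - 0 * 0 = 1 := by
      have h1 := a.2
      rw [hM, Matrix.det_fin_two_of] at h1
      exact h1
    rw [Matrix.SpecialLinearGroup.coe_mul, Matrix.SpecialLinearGroup.coe_mul,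
      Matrix.SpecialLinearGroup.coe_inv, hx, hM, Matrix.adjugate_fin_two_of] at hxa
    simp [Matrix.mul_apply, Fin.sum_univ_two] at hxa
    have h5 : t * (δ - α) = 0 := by linear_combination hxa
    have h6 : δ = α := by
      rcases mul_eq_zero.1 h5 with h7 | h7
      · exact absurd h7 ht
      · linear_combination h7
    subst h6
    have h7 : (δ - 1) * (δ + 1) = 0 := by linear_combination hdet
    rcases mul_eq_zero.1 h7 with h8 | h8
    · left
      have h9 : δ = 1 := by linear_combination h8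
      subst h9
      apply Subtype.ext
      change (a : Matrix (Fin 2) (Fin 2) F) = 1
      rw [hM]
      ext i j
      fin_cases i <;> fin_cases j <;> simp
    · right
      have h9 : δ = -1 := by linear_combination h8
      subst h9
      apply Subtype.ext
      change (a : Matrix (Fin 2) (Fin 2) F) = -1
      rw [hM]
      ext i j
      fin_cases i <;> fin_cases j <;> simp

/-- The relation `x ∘ ι = ι ∘ M`. -/
def relSL {V : Type*} (ι : (Fin 2 → F) → V) :
    Subgroup (SpecialLinearGroup (Fin 2) F × Equiv.Perm V) where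
  carrier := {z | ∀ w, z.2 (ι w) = ι ((z.1 : Matrix (Fin 2) (Fin 2) F) *ᵥ w)}
  one_mem' := fun w => by
    change ι w = ι ((1 : Matrix (Fin 2) (Fin 2) F) *ᵥ w)
    rw [Matrix.one_mulVec]
  mul_mem' := by
    intro z z' hz hz' w
    change z.2 (z'.2 (ι w)) = ι (((z.1 * z'.1 : SpecialLinearGroup (Fin 2) F) :
      Matrix (Fin 2) (Fin 2) F) *ᵥ w)
    rw [hz', hz, Matrix.SpecialLinearGroup.coe_mul, Matrix.mulVec_mulVec]
  inv_mem' := by
    intro z hz w
    change z.2⁻¹ (ι w) = ι (((z.1⁻¹ : SpecialLinearGroup (Fin 2) F) :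
      Matrix (Fin 2) (Fin 2) F) *ᵥ w)
    apply z.2.injective
    rw [hz, Matrix.mulVec_mulVec, ← Matrix.SpecialLinearGroup.coe_mul, mul_inv_cancel,
      Matrix.SpecialLinearGroup.coe_one, Matrix.one_mulVec]
    exact Equiv.apply_symm_apply z.2 _

theorem not_isSolvable_plane {V : Type*} [AddCommGroup V] [Module F V] (h2 : (2 : F) ≠ 0)
    (h3 : (3 : F) ≠ 0) {A B : Equiv.Perm V} {u v : V} (huv : LinearIndependent F ![u, v])
    {α β : F} (hα : α ≠ 0) (hβ : β ≠ 0)
    (hA : ∀ a b : F, A (a • u + b • v) = (a + α * b) • u + b • v)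
    (hB : ∀ a b : F, B (a • u + b • v) = a • u + (β * a + b) • v) :
    ¬ Group.IsSolvable ↥(Subgroup.closure ({A, B} : Set (Equiv.Perm V))) := by
  intro hs
  let ι : (Fin 2 → F) → V := fun w => w 0 • u + w 1 • v
  have hι : Function.Injective ι := by
    intro w w' h
    have h1 : (w 0 - w' 0) • u + (w 1 - w' 1) • v = 0 := by
      have h4 : w 0 • u + w 1 • v = w' 0 • u + w' 1 • v := h
      rw [sub_smul, sub_smul]
      calc w 0 • u - w' 0 • u + (w 1 • v - w' 1 • v)
          = (w 0 • u + w 1 • v) - (w' 0 • u + w' 1 • v) := by abel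
        _ = 0 := by rw [h4, sub_self]
    obtain ⟨h4, h5⟩ := LinearIndependent.pair_iff.1 huv _ _ h1
    funext i
    fin_cases i
    · exact sub_eq_zero.1 h4
    · exact sub_eq_zero.1 h5
  let x : SpecialLinearGroup (Fin 2) F := ⟨!![1, α; 0, 1], by rw [Matrix.det_fin_two_of]; ring⟩
  let y : SpecialLinearGroup (Fin 2) F := ⟨!![1, 0; β, 1], by rw [Matrix.det_fin_two_of]; ring⟩
  refine not_isSolvable_twoTrans h2 h3 (x := x) (y := y) hα hβ rfl rfl ?_
  refine isSolvable_of_rel' (relSL ι) ?_ (b₁ := A) (b₂ := B) ?_ ?_ hs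
  · intro a ha
    apply Subtype.ext
    apply Matrix.ext_of_mulVec_single
    intro i
    have h1 := ha (Pi.single i 1)
    change ι (Pi.single i 1) = ι ((a : Matrix (Fin 2) (Fin 2) F) *ᵥ (Pi.single i 1)) at h1
    rw [← hι h1, Matrix.SpecialLinearGroup.coe_one, Matrix.one_mulVec]
  · intro w
    change A (w 0 • u + w 1 • v) = ((x : Matrix (Fin 2) (Fin 2) F) *ᵥ w) 0 • u +
      ((x : Matrix (Fin 2) (Fin 2) F) *ᵥ w) 1 • v
    rw [hA]
    have h1 : (x : Matrix (Fin 2) (Fin 2) F) = !![1, α; 0, 1] := rfl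
    rw [h1]
    simp [Matrix.mulVec, dotProduct, Fin.sum_univ_two]
  · intro w
    change B (w 0 • u + w 1 • v) = ((y : Matrix (Fin 2) (Fin 2) F) *ᵥ w) 0 • u +
      ((y : Matrix (Fin 2) (Fin 2) F) *ᵥ w) 1 • v
    rw [hB]
    have h1 : (y : Matrix (Fin 2) (Fin 2) F) = !![1, 0; β, 1] := rfl
    rw [h1]
    simp [Matrix.mulVec, dotProduct, Fin.sum_univ_two]

end sl

end Cfsg.Agent.H499.S5
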