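import Cfsg.Agent.H716.S5.Base
import Cfsg.Agent.H957.T5U3
import Cfsg.Agent.H106.MOwnPSU
import Cfsg.Agent.H499.S5.Rel

/-!
# S2274: strong pairs of semi-isometries and `PSU_n(q)`

* `srow_psu_of` : `SRow p (PSU n F q)` from the strong pairs of semi-isometries;
* `sp_of_srow` : the converse;
* `sp_of_ap`, `bp_own` : own characteristic, part (b).
-/

set_option autoImplicit false

namespace Cfsg.Agent.H499.S5

open Cfsg Cfsg.Agent.LieClassical.HermBasic Cfsg.Agent.LieClassical.HermSiegel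
open Cfsg.Agent.LieClassical.SUBasic Matrix
open Cfsg.Agent.ClassicalGeometry.PSUAutCount Cfsg.Agent.ClassicalGeometry.UnitAutBasic
open Cfsg.Agent.H957.T5V Cfsg.Agent.H957.T5Tr Cfsg.Agent.H957.T5U Cfsg.Agent.H533.T5
open Cfsg.Agent.H177.MeetPSU (rho rho_apply rho_injective yy yy_apply ind_yy uniq)
open Cfsg.Agent.H903.SylSemi (Ind scal scal_apply)
open Cfsg.Agent.H716.S5
open Cfsg.Agent.UGT.U2.FOne.PSU (Rep rep_toAut)
open Cfsg.Agent.KFacts.Unit (sg exists_GU_of_semi)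

variable {F : Type} [Field F] [Fintype F] {n q p : ℕ} {σ τ : F ≃+* F}
  {y z : Equiv.Perm (Fin n → F)}

/-- The semi-isometries of order `p` modulo scalars. -/
structure PE (q p : ℕ) (y : Equiv.Perm (Fin n → F)) : Prop where
  si : ∃ σ : F ≃+* F, SI q σ y
  pw : IsScal F (y ^ p)
  ns : ¬ IsScal F y

theorem ind_of_si (hF : Fintype.card F = q ^ 2) (hy : SI q σ y) :
    ∃ β, Ind (pr n F q) (rho n F q) y β ∧ Rep β y σ := by
  obtain ⟨A, hA⟩ := exists_GU_of_semi hF σ hy.semi.add hy.semi.smul hy.herm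
  have h1 : yy A σ = y := by
    ext1 v
    exact hA v
  refine ⟨toAut A σ, ?_, ?_⟩
  · have h2 := ind_yy A σ
    rwa [h1] at h2
  · have h2 := rep_toAut A σ
    have h3 : sg A σ = y := by
      funext v
      exact hA v
    rwa [h3] at h2

theorem uniq_si (hF : Fintype.card F = q ^ 2) (hn : 3 ≤ n) (y : Equiv.Perm (Fin n → F))
    (hy : ∃ θ : F ≃+* F, SI q θ y) (hI : Ind (pr n F q) (rho n F q) y 1) :
    ∃ a : Fˣ, y = scal F (Fin n → F) a := by
  obtain ⟨θ, hθ⟩ := hy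
  refine uniq hF hn ⟨θ, 1, one_ne_zero, ⟨hθ.semi.add, hθ.semi.smul⟩, fun u v => ?_⟩ hI
  rw [one_mul, hθ.herm]

theorem w_mul {F : Type} [Field F] {n q : ℕ} (y y' : Equiv.Perm (Fin n → F))
    (h : ∃ θ : F ≃+* F, SI q θ y) (h' : ∃ θ : F ≃+* F, SI q θ y') :
    ∃ θ : F ≃+* F, SI q θ (y * y') := by
  obtain ⟨θ, h⟩ := h
  obtain ⟨θ', h'⟩ := h'
  exact ⟨θ * θ', h.mul h'⟩

theorem w_rho {F : Type} [Field F] {n q : ℕ} (s : SU n F q) :
    ∃ θ : F ≃+* F, SI q θ (rho n F q s) := ⟨1, si_rho s⟩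

/-- **The row from the strong pairs of semi-isometries.** -/
theorem srow_psu_of (hF : Fintype.card F = q ^ 2) (hn : 3 ≤ n) (h32 : ¬ (n = 3 ∧ q = 2))
    (hp : p.Prime) (hcore : ∀ y z : Equiv.Perm (Fin n → F), PE q p y → PE q p z →
      SP F p (rho n F q) y z) : SRow p (PSU n F q) := by
  have : Nonempty (Fin n) := ⟨⟨0, by omega⟩⟩
  have : Nontrivial (Fin n → F) := Function.nontrivial
  refine srow_of_semi (F := F) hp (π := pr n F q) pr_surjective (ρ := rho n F q) rho_injective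
    (fun s => (si_rho s).semi) (W := fun y => ∃ θ : F ≃+* F, SI q θ y) w_mul w_rho ?_
    (uniq_si hF hn) ?_
  · intro β _
    obtain ⟨A, θ, rfl⟩ := Cfsg.Agent.ClassicalGeometry.PSUAutMain.exists_toAut hF hn h32 β
    refine ⟨yy A θ, ⟨θ, ⟨fun u v => ?_, fun a v => ?_⟩, fun u v => herm_semi A θ u v⟩, ind_yy A θ⟩
    · rw [yy_apply, yy_apply, yy_apply, ← Matrix.mulVec_add]
      congr 1
      funext i
      exact map_add θ _ _
    · rw [yy_apply, yy_apply, ← Matrix.mulVec_smul]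
      congr 1
      funext i
      exact map_mul θ _ _
  · intro y z hy hz hyp hyn hzp hzn
    exact hcore y z ⟨hy, hyp, hyn⟩ ⟨hz, hzp, hzn⟩

/-- **The converse.** -/
theorem sp_of_srow (hF : Fintype.card F = q ^ 2) (hn : 3 ≤ n) (hp : p.Prime)
    (hrow : SRow p (PSU n F q)) (hy : PE q p y) (hz : PE q p z) : SP F p (rho n F q) y z := by
  have : Nonempty (Fin n) := ⟨⟨0, by omega⟩⟩
  have : Nontrivial (Fin n → F) := Function.nontrivial
  refine semi_of_srow (F := F) hp (π := pr n F q) pr_surjective (ρ := rho n F q) rho_injective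
    (fun s => (si_rho s).semi) (W := fun y => ∃ θ : F ≃+* F, SI q θ y) w_mul w_rho
    (uniq_si hF hn) hrow hy.si hz.si ?_ ?_ hy.pw hy.ns hz.pw hz.ns
  · obtain ⟨σ, h⟩ := hy.si
    obtain ⟨β, h1, -⟩ := ind_of_si hF h
    exact ⟨β, h1⟩
  · obtain ⟨σ, h⟩ := hz.si
    obtain ⟨β, h1, -⟩ := ind_of_si hF h
    exact ⟨β, h1⟩

/-- The automorphism of a semi-isometry of order `p` modulo scalars. -/
theorem PE.ind (hF : Fintype.card F = q ^ 2) (hn : 3 ≤ n) [hp : Fact p.Prime] (hy : PE q p y)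
    (hσ : SI q σ y) : ∃ β, Ind (pr n F q) (rho n F q) y β ∧ Rep β y σ ∧ orderOf β = p := by
  have : Nonempty (Fin n) := ⟨⟨0, by omega⟩⟩
  have : Nontrivial (Fin n → F) := Function.nontrivial
  obtain ⟨β, h1, h2⟩ := ind_of_si hF hσ
  refine ⟨β, h1, h2, orderOf_eq_prime ?_ ?_⟩
  · obtain ⟨a, ha⟩ := exists_scal hy.pw
    have h3 := h1.pow p
    rw [ha] at h3
    exact Ind.unique pr_surjective rho_injective h3 (ind_scal (fun s => (si_rho s).semi) a)
  · rintro rfl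
    obtain ⟨a, ha⟩ := uniq_si hF hn y hy.si h1
    apply hy.ns
    rw [ha]
    exact isScal_scal a

/-- Part (b) in own characteristic. -/
theorem bp_own (hF : Fintype.card F = q ^ 2) (hn : 3 ≤ n) [hp : Fact p.Prime] [CharP F p]
    (hp5 : 5 ≤ p) (hy : PE q p y) (hz : PE q p z) : BP F p (rho n F q) y z := by
  have : Nonempty (Fin n) := ⟨⟨0, by omega⟩⟩
  have : Nontrivial (Fin n → F) := Function.nontrivial
  obtain ⟨σ, hσ⟩ := hy.si
  obtain ⟨τ, hτ⟩ := hz.si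
  obtain ⟨c, hyc, -, hc⟩ := hy.ind hF hn hσ
  obtain ⟨d, hzd, -, hd⟩ := hz.ind hF hn hτ
  obtain ⟨_, ⟨t, rfl⟩, h⟩ := Cfsg.Agent.H106.MOwnU.bpair hF hn hp5 hc hd
  obtain ⟨s, rfl⟩ := pr_surjective t
  refine ⟨s, fun k hk => h k ?_⟩
  have e1 : (rho n F q s)⁻¹ = rho n F q s⁻¹ := (map_inv _ s).symm
  have e2 : (MulAut.conj (pr n F q s))⁻¹ = MulAut.conj (pr n F q s⁻¹) := by
    rw [map_inv (pr n F q), map_inv]
  have h3 : Ind (pr n F q) (rho n F q) (rho n F q s * z * (rho n F q s)⁻¹)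
      (MulAut.conj (pr n F q s) * d * (MulAut.conj (pr n F q s))⁻¹) := by
    rw [e1, e2]
    exact ((Ind.conj _ _ s).mul hzd).mul (Ind.conj _ _ s⁻¹)
  have h4 := (hyc.mul h3).pow (p ^ k)
  obtain ⟨a, ha⟩ := exists_scal hk
  rw [ha] at h4
  exact Ind.unique pr_surjective rho_injective h4 (ind_scal (fun s => (si_rho s).semi) a)

end Cfsg.Agent.H499.S5
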