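import Cfsg.Agent.H499.S5.Psu
import Cfsg.Agent.LieClassical.GUOrder

/-!
# S2274, `PSU_n(q)`: the section `u^⊥ / u` of an isotropic vector

`sp_step` : strong pairs in `Fin m → F` give strong pairs in `Fin (m + 2) → F` for the semi-isometries that fix an
isotropic point `⟨u⟩` and are not scalar on `u^⊥ / u` (`PT`).
-/

set_option autoImplicit false

namespace Cfsg.Agent.H499.S5

open Cfsg Cfsg.Agent.LieClassical.HermBasic Cfsg.Agent.LieClassical.HermSiegel
open Cfsg.Agent.LieClassical.HermGen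
open Cfsg.Agent.LieClassical.SUBasic Matrix
open Cfsg.Agent.LieClassical.GUOrder (herm_succ ext1 ext1_mulVec_zero ext1_mulVec_succ ext1_isom
  det_ext1)
open Cfsg.Agent.H957.T5V Cfsg.Agent.H957.T5Tr Cfsg.Agent.H957.T5U Cfsg.Agent.H533.T5
open Cfsg.Agent.H177.MeetPSU (rho rho_apply rho_injective)
open Cfsg.Agent.H716.S5

section coord

variable {F : Type} [Field F] {m q : ℕ}

/-- The inclusion of the last `m` coordinates. -/
def io (w : Fin m → F) : Fin (m + 2) → F := Fin.cons 0 (Fin.cons 0 w)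

/-- The last `m` coordinates. -/
def tl (v : Fin (m + 2) → F) : Fin m → F := fun i => v i.succ.succ

/-- The vector `(1, α, 0, ..., 0)`. -/
def ev (m : ℕ) (α : F) : Fin (m + 2) → F := Fin.cons 1 (Fin.cons α 0)

theorem tl_io (w : Fin m → F) : tl (io w) = w := rfl

theorem tl_ev (α : F) : tl (ev m α) = 0 := rfl

theorem tl_add (v w : Fin (m + 2) → F) : tl (v + w) = tl v + tl w := rfl

theorem tl_sub (v w : Fin (m + 2) → F) : tl (v - w) = tl v - tl w := rfl

theorem tl_smul (a : F) (v : Fin (m + 2) → F) : tl (a • v) = a • tl v := rfl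

theorem ext2 {v w : Fin (m + 2) → F} (h0 : v 0 = w 0) (h1 : v 1 = w 1) (h : tl v = tl w) :
    v = w := by
  funext i
  refine Fin.cases h0 (fun i => ?_) i
  refine Fin.cases h1 (fun i => ?_) i
  exact congrFun h i

theorem io_add (v w : Fin m → F) : io (v + w) = io v + io w :=
  ext2 (by change (0 : F) = 0 + 0; rw [add_zero]) (by change (0 : F) = 0 + 0; rw [add_zero]) rfl

theorem io_sub (v w : Fin m → F) : io (v - w) = io v - io w :=
  ext2 (by change (0 : F) = 0 - 0; rw [sub_zero]) (by change (0 : F) = 0 - 0; rw [sub_zero]) rfl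

theorem io_smul (a : F) (w : Fin m → F) : io (a • w) = a • io w :=
  ext2 (by change (0 : F) = a * 0; rw [mul_zero]) (by change (0 : F) = a * 0; rw [mul_zero]) rfl

theorem herm_two (u v : Fin (m + 2) → F) : hermForm (m + 2) F q u v =
    u 0 * v 0 ^ q + (u 1 * v 1 ^ q + hermForm m F q (tl u) (tl v)) := by
  rw [herm_succ, herm_succ]
  rfl

theorem ev_ne_zero (α : F) : ev m α ≠ 0 := by
  intro h
  have h1 := congrFun h 0
  exact one_ne_zero h1

variable [Fintype F]

theorem herm_io (hF : Fintype.card F = q ^ 2) (v w : Fin m → F) :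
    hermForm (m + 2) F q (io v) (io w) = hermForm m F q v w := by
  rw [herm_two]
  change (0 : F) * 0 ^ q + (0 * 0 ^ q + hermForm m F q v w) = _
  rw [zero_mul, zero_add, zero_add]

theorem herm_ev (hF : Fintype.card F = q ^ 2) {α : F} (hα : α * α ^ q = -1) :
    hermForm (m + 2) F q (ev m α) (ev m α) = 0 := by
  rw [herm_two]
  change (1 : F) * 1 ^ q + (α * α ^ q + hermForm m F q 0 (tl (ev m α))) = 0
  rw [herm_zero_left, hα, one_pow]
  ring

theorem herm_io_ev (hF : Fintype.card F = q ^ 2) (w : Fin m → F) (α : F) :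
    hermForm (m + 2) F q (io w) (ev m α) = 0 := by
  rw [herm_two, tl_ev, herm_zero_right hF]
  change (0 : F) * 1 ^ q + (0 * α ^ q + 0) = 0
  ring

theorem eq_io (hF : Fintype.card F = q ^ 2) {α : F} (hα : α * α ^ q = -1) {v : Fin (m + 2) → F}
    (h : hermForm (m + 2) F q v (ev m α) = 0) : v = io (tl v) + v 0 • ev m α := by
  rw [herm_two, tl_ev, herm_zero_right hF] at h
  have h1 : v 0 * 1 ^ q + (v 1 * α ^ q + 0) = 0 := h
  rw [one_pow] at h1
  refine ext2 ?_ ?_ ?_
  · change v 0 = 0 + v 0 * 1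
    ring
  · change v 1 = 0 + v 0 * α
    linear_combination (-α) * h1 + (-v 1) * (hα * (-1 : F) + 0) + 0
  · rw [tl_add, tl_smul, tl_ev, smul_zero, add_zero]
    rfl

/-- Extension of `SU_m` by the identity. -/
def lift (g : SU m F q) : SU (m + 2) F q :=
  mkSU (ext1 1 (ext1 1 (mat g))) (by rw [det_ext1, det_ext1, det_mat, one_mul, one_mul])
    (ext1_isom 1 (one_pow _) _ (ext1_isom 1 (one_pow _) _ (fun u v => herm_act g u v)))

theorem act_lift_io (g : SU m F q) (w : Fin m → F) : act (lift g) (io w) = io (act g w) := by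
  refine ext2 ?_ ?_ ?_
  · change (ext1 1 (ext1 1 (mat g)) *ᵥ io w) 0 = 0
    rw [ext1_mulVec_zero]
    change (1 : F) * 0 = 0
    rw [mul_zero]
  · change (ext1 1 (ext1 1 (mat g)) *ᵥ io w) (Fin.succ 0) = 0
    rw [ext1_mulVec_succ, ext1_mulVec_zero]
    change (1 : F) * 0 = 0
    rw [mul_zero]
  · funext i
    change (ext1 1 (ext1 1 (mat g)) *ᵥ io w) i.succ.succ = _
    rw [ext1_mulVec_succ, ext1_mulVec_succ]
    rfl

theorem act_lift_ev (g : SU m F q) (α : F) : act (lift g) (ev m α) = ev m α := by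
  refine ext2 ?_ ?_ ?_
  · change (ext1 1 (ext1 1 (mat g)) *ᵥ ev m α) 0 = 1
    rw [ext1_mulVec_zero]
    change (1 : F) * 1 = 1
    rw [mul_one]
  · change (ext1 1 (ext1 1 (mat g)) *ᵥ ev m α) (Fin.succ 0) = α
    rw [ext1_mulVec_succ, ext1_mulVec_zero]
    change (1 : F) * α = α
    rw [one_mul]
  · funext i
    change (ext1 1 (ext1 1 (mat g)) *ᵥ ev m α) i.succ.succ = 0
    rw [ext1_mulVec_succ, ext1_mulVec_succ]
    have : (fun j : Fin m => (ev m α) j.succ.succ) = 0 := rfl
    change (mat g *ᵥ (fun j : Fin m => (ev m α) j.succ.succ)) i = 0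
    rw [this, Matrix.mulVec_zero]
    rfl

variable {σ : F ≃+* F} {c : Equiv.Perm (Fin (m + 2) → F)}

/-- The semi-isometry induced on `u^⊥ / u`. -/
theorem exists_ind (hF : Fintype.card F = q ^ 2) {α : F} (hα : α * α ^ q = -1)
    (hc : SI q σ c) {a : F} (ha : c (ev m α) = a • ev m α) :
    ∃ c0 : Equiv.Perm (Fin m → F), SI q σ c0 ∧ ∀ w, ∃ b : F, c (io w) = io (c0 w) + b • ev m α := by
  have hperp : ∀ w : Fin m → F, c (io w) = io (tl (c (io w))) + (c (io w)) 0 • ev m α := by
    intro w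
    have ha0 : a ≠ 0 := by
      rintro rfl
      rw [zero_smul] at ha
      exact ev_ne_zero α (c.injective (ha.trans hc.semi.zero.symm))
    apply eq_io hF hα
    have h1 := hc.herm (io w) (ev m α)
    rw [ha, herm_smul_right, herm_io_ev hF, map_zero] at h1
    exact (mul_eq_zero.1 h1).resolve_left (pow_ne_zero _ ha0)
  have hinj : Function.Injective fun w : Fin m → F => tl (c (io w)) := by
    intro w w' h
    have h1 : tl (c (io w)) = tl (c (io w')) := h
    have h2 : c (io (w - w')) = ((c (io (w - w'))) 0) • ev m α := by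
      have h3 := hperp (w - w')
      rw [io_sub, hc.semi.sub, tl_sub, h1, sub_self] at h3
      rw [io_sub, hc.semi.sub]
      have h4 : io (0 : Fin m → F) = 0 := ext2 rfl rfl rfl
      rw [h4, zero_add] at h3
      exact h3
    have ha0 : a ≠ 0 := by
      rintro rfl
      rw [zero_smul] at ha
      exact ev_ne_zero α (c.injective (ha.trans hc.semi.zero.symm))
    set t := (c (io (w - w'))) 0 with ht
    have h3 : c (io (w - w')) = c ((σ.symm (t * a⁻¹)) • ev m α) := by
      rw [h2, hc.semi.smul, ha, RingEquiv.apply_symm_apply, smul_smul, mul_assoc,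
        inv_mul_cancel₀ ha0, mul_one]
    have h4 := c.injective h3
    have h5 := congrArg tl h4
    rw [tl_io, tl_smul, tl_ev, smul_zero] at h5
    exact sub_eq_zero.1 h5
  refine ⟨Equiv.ofBijective _ (Finite.injective_iff_bijective.1 hinj), ⟨⟨fun v w => ?_,
    fun b v => ?_⟩, fun v w => ?_⟩, fun w => ⟨_, hperp w⟩⟩
  · change tl (c (io (v + w))) = tl (c (io v)) + tl (c (io w))
    rw [io_add, hc.semi.add, tl_add]
  · change tl (c (io (b • v))) = σ b • tl (c (io v))
    rw [io_smul, hc.semi.smul, tl_smul]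
  · change hermForm m F q (tl (c (io v))) (tl (c (io w))) = _
    rw [← herm_io hF v w, ← hc.herm, hperp v, hperp w]
    simp only [tl_add, tl_io, tl_smul, tl_ev, smul_zero, add_zero, herm_add_left,
      herm_add_right hF, herm_smul_left, herm_smul_right, herm_io hF, herm_io_ev hF,
      herm_ev hF hα, herm_eq_zero_swap hF (herm_io_ev hF _ α), mul_zero]

end coord

variable {F : Type} [Field F] [Fintype F] {n m q p : ℕ}

/-- `c` fixes an isotropic point `⟨u⟩` and is not scalar on `u^⊥ / u`. -/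
def PT (q : ℕ) (c : Equiv.Perm (Fin n → F)) : Prop :=
  ∃ u : Fin n → F, u ≠ 0 ∧ hermForm n F q u u = 0 ∧ (∃ a : F, c u = a • u) ∧
    ¬ ∃ a : F, ∀ v, hermForm n F q v u = 0 → ∃ b : F, c v = a • v + b • u

/-- **The section**: data for one element. -/
theorem exists_sec (hF : Fintype.card F = q ^ 2) (hm : 1 ≤ m) {α : F} (hα : α * α ^ q = -1)
    {c : Equiv.Perm (Fin (m + 2) → F)} (hc : PE q p c) (ht : PT q c) :
    ∃ (s : SU (m + 2) F q) (c0 : Equiv.Perm (Fin m → F)), PE q p c0 ∧
      ∀ v w, (∃ b : F, act s v = io w + b • ev m α) ↔ (∃ b : F, act s (c v) = io (c0 w) + b • ev m α) := by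
  obtain ⟨σ, hσ⟩ := hc.si
  obtain ⟨u, hu0, hu, ⟨a, ha⟩, hn⟩ := ht
  obtain ⟨s, -, hs⟩ := exists_map_iso hF (by omega : 3 ≤ m + 2) le_rfl (mem_coordSub_top u)
    (mem_coordSub_top (ev m α)) hu0 (ev_ne_zero α) hu (herm_ev hF hα)
  have hc' := hσ.conj s
  set c' := rho (m + 2) F q s * c * (rho (m + 2) F q s)⁻¹ with hcdef
  have hc'v : ∀ v, c' (act s v) = act s (c v) := by
    intro v
    rw [hcdef, Equiv.Perm.mul_apply, Equiv.Perm.mul_apply]
    have h1 : (rho (m + 2) F q s)⁻¹ (act s v) = v := by rw [← rho_apply, inv_apply_self]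
    rw [h1, rho_apply]
  have ha' : c' (ev m α) = a • ev m α := by rw [← hs, hc'v, ha, act_smul]
  have ha0 : a ≠ 0 := by
    rintro rfl
    rw [zero_smul] at ha'
    exact ev_ne_zero α (c'.injective (ha'.trans hc'.semi.zero.symm))
  obtain ⟨c0, hc0, hcc⟩ := exists_ind hF hα hc' ha'
  have key : ∀ v w, (∃ b : F, v = io w + b • ev m α) ↔
      (∃ b : F, c' v = io (c0 w) + b • ev m α) := by
    intro v w
    obtain ⟨b0, hb0⟩ := hcc w
    constructor
    · rintro ⟨b, rfl⟩
      refine ⟨b0 + σ b * a, ?_⟩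
      rw [hc'.semi.add, hb0, hc'.semi.smul, ha', smul_smul]
      module
    · rintro ⟨b, hb⟩
      refine ⟨σ.symm ((b - b0) * a⁻¹), ?_⟩
      apply c'.injective
      rw [hb, hc'.semi.add, hb0, hc'.semi.smul, ha', RingEquiv.apply_symm_apply, smul_smul,
        mul_assoc, inv_mul_cancel₀ ha0]
      module
  have keyp : ∀ (k : ℕ) v w, (∃ b : F, v = io w + b • ev m α) →
      (∃ b : F, (c' ^ k) v = io ((c0 ^ k) w) + b • ev m α) := by
    intro k
    induction k with
    | zero => intro v w h; exact h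
    | succ k ih =>
      intro v w h
      rw [pow_succ, pow_succ]
      exact ih _ _ ((key v w).1 h)
  refine ⟨s, c0, ⟨⟨σ, hc0⟩, ?_, ?_⟩, ?_⟩
  · obtain ⟨l, hl⟩ := hc.pw
    refine ⟨l, fun w => ?_⟩
    obtain ⟨b, hb⟩ := keyp p (io w) w ⟨0, by rw [zero_smul, add_zero]⟩
    have h1 : (c' ^ p) (io w) = l • io w := by
      rw [hcdef, conj_pow, Equiv.Perm.mul_apply, Equiv.Perm.mul_apply, hl, rho_apply, act_smul,
        ← rho_apply, apply_inv_self]
    rw [h1] at hb
    have h2 := congrArg tl hb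
    rw [tl_smul, tl_io, tl_add, tl_io, tl_smul, tl_ev, smul_zero, add_zero] at h2
    exact h2.symm
  · rintro ⟨t, ht⟩
    apply hn
    refine ⟨t, fun v hv => ?_⟩
    have h1 : hermForm (m + 2) F q (act s v) (ev m α) = 0 := by rw [← hs, herm_act, hv]
    have h2 := eq_io hF hα h1
    obtain ⟨b, hb⟩ := (key (act s v) (tl (act s v))).1 ⟨_, h2⟩
    rw [ht, hc'v, io_smul] at hb
    refine ⟨b - t * (act s v) 0, act_injective s ?_⟩
    rw [hb, act_add, act_smul, act_smul, hs]
    conv_rhs => rw [h2]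
    have h3 : (io (tl (act s v)) + (act s v) 0 • ev m α) 0 = (act s v) 0 := by rw [← h2]
    rw [h3]
    module
  · intro v w
    rw [← hc'v]
    exact key _ _

/-- **The step.** -/
theorem sp_step (hF : Fintype.card F = q ^ 2) (hm : 1 ≤ m)
    (hcore : ∀ y z : Equiv.Perm (Fin m → F), PE q p y → PE q p z → SP F p (rho m F q) y z)
    {c d : Equiv.Perm (Fin (m + 2) → F)} (hc : PE q p c) (hd : PE q p d) (hct : PT q c)
    (hdt : PT q d) : SP F p (rho (m + 2) F q) c d := by
  obtain ⟨α, hα⟩ := exists_norm_eq hF (c := (-1 : F)) (by rw [neg_pow_q hF, one_pow])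
  obtain ⟨s, c0, hc0, hcs⟩ := exists_sec hF hm hα hc hct
  obtain ⟨t, d0, hd0, hds⟩ := exists_sec hF hm hα hd hdt
  refine SP.of_rel (r := fun v w => ∃ b : F, act s v = io w + b • ev m α)
    (r' := fun v w => ∃ b : F, act t v = io w + b • ev m α) ?_ ?_ ?_ hcs hds ?_
    (hcore c0 d0 hc0 hd0)
  · intro w
    exact ⟨act s⁻¹ (io w), 0, by rw [act_act_inv, zero_smul, add_zero]⟩
  · rintro v w w' ⟨b, hb⟩ ⟨b', hb'⟩
    rw [hb] at hb'
    have h1 := congrArg tl hb'
    rw [tl_add, tl_io, tl_smul, tl_ev, smul_zero, add_zero, tl_add, tl_io, tl_smul, tl_ev,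
      smul_zero, add_zero] at h1
    exact h1
  · rintro a v w ⟨b, hb⟩
    exact ⟨a * b, by rw [act_smul, hb, io_smul, smul_add, smul_smul]⟩
  · intro g
    refine ⟨s⁻¹ * lift g * t, fun v w => ?_⟩
    rw [rho_apply, rho_apply, act_mul, act_mul, act_act_inv]
    constructor
    · rintro ⟨b, hb⟩
      exact ⟨b, by rw [hb, act_add, act_smul, act_lift_io, act_lift_ev]⟩
    · rintro ⟨b, hb⟩
      refine ⟨b, act_injective (lift g) ?_⟩
      rw [hb, act_add, act_smul, act_lift_io, act_lift_ev]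

end Cfsg.Agent.H499.S5
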